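import Mathlib.AlgebraicGeometry.Morphisms.Finite
import Mathlib.AlgebraicGeometry.Morphisms.Flat
import Mathlib.AlgebraicGeometry.Morphisms.UniversallyOpen
import Mathlib.AlgebraicGeometry.PullbackCarrier
import Mathlib.AlgebraicGeometry.ResidueField
import Mathlib.AlgebraicGeometry.Restrict

/-!
# Finite clopen pieces of a morphism, tested on field-valued points
-/

universe u

open CategoryTheory CategoryTheory.Limits AlgebraicGeometry

set_option backward.isDefEq.respectTransparency false

namespace Groth.Agent.GrpdSplit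

variable {R U T T' : Scheme.{u}} (s : R ⟶ U)

section field

variable {K L : Type u} [Field K] [Field L]

theorem flat_of_field (ψ : Spec (CommRingCat.of L) ⟶ Spec (CommRingCat.of K)) : Flat ψ := by
  obtain ⟨φ, rfl⟩ := Spec.map_surjective ψ
  rw [HasRingHomProperty.Spec_iff (P := @Flat)]
  letI := φ.hom.toAlgebra
  exact RingHom.flat_algebraMap_iff.2 (inferInstance : Module.Flat K L)

theorem surjective_of_field (ψ : Spec (CommRingCat.of L) ⟶ Spec (CommRingCat.of K)) : Surjective ψ :=
  ⟨fun p => ⟨IsLocalRing.closedPoint _, Subsingleton.elim _ _⟩⟩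

theorem hom_ext_field {X : Scheme.{u}} (ψ : Spec (CommRingCat.of L) ⟶ Spec (CommRingCat.of K))
    {x y : Spec (CommRingCat.of K) ⟶ X} (h : ψ ≫ x = ψ ≫ y) : x = y := by
  haveI := flat_of_field ψ
  haveI := surjective_of_field ψ
  haveI := Flat.epi_of_flat_of_surjective ψ
  exact (cancel_epi ψ).1 h

theorem apply_field {X : Scheme.{u}} (ψ : Spec (CommRingCat.of L) ⟶ Spec (CommRingCat.of K))
    (x : Spec (CommRingCat.of K) ⟶ X) (p : ↥(Spec (CommRingCat.of L))) (q : ↥(Spec (CommRingCat.of K))) :
    (ψ ≫ x) p = x q := by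
  rw [Scheme.Hom.comp_apply, Subsingleton.elim (ψ p) q]

theorem exists_lift_field {X : Scheme.{u}} (f : X ⟶ T) (x : Spec (CommRingCat.of K) ⟶ T) (z : X)
    (hz : f z = x (IsLocalRing.closedPoint K)) :
    ∃ (M : Type u) (_ : Field M) (ψ : Spec (CommRingCat.of M) ⟶ Spec (CommRingCat.of K))
      (y : Spec (CommRingCat.of M) ⟶ X), y ≫ f = ψ ≫ x ∧ ∀ p, y p = z := by
  obtain ⟨q, hq₁, -⟩ := Scheme.Pullback.exists_preimage_pullback (f := f) (g := x) z (IsLocalRing.closedPoint K) hz
  refine ⟨(pullback f x).residueField q, inferInstance,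
    (pullback f x).fromSpecResidueField q ≫ pullback.snd f x,
    (pullback f x).fromSpecResidueField q ≫ pullback.fst f x, ?_, fun p => ?_⟩
  · rw [Category.assoc, Category.assoc, pullback.condition]
  · show pullback.fst f x ((pullback f x).fromSpecResidueField q p) = z
    rw [(pullback f x).fromSpecResidueField_apply q]
    exact hq₁

theorem exists_common_field {X : Scheme.{u}} (f : X ⟶ T) (x : Spec (CommRingCat.of K) ⟶ T)
    (y : Spec (CommRingCat.of L) ⟶ X) (h : f (y (IsLocalRing.closedPoint L)) = x (IsLocalRing.closedPoint K)) :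
    ∃ (M : Type u) (_ : Field M) (ψ : Spec (CommRingCat.of M) ⟶ Spec (CommRingCat.of K))
      (φ : Spec (CommRingCat.of M) ⟶ Spec (CommRingCat.of L)), φ ≫ y ≫ f = ψ ≫ x := by
  obtain ⟨q, hq₁, -⟩ := Scheme.Pullback.exists_preimage_pullback (f := y ≫ f) (g := x)
    (IsLocalRing.closedPoint L) (IsLocalRing.closedPoint K) (by rw [Scheme.Hom.comp_apply]; exact h)
  exact ⟨(pullback (y ≫ f) x).residueField q, inferInstance,
    (pullback (y ≫ f) x).fromSpecResidueField q ≫ pullback.snd _ _,
    (pullback (y ≫ f) x).fromSpecResidueField q ≫ pullback.fst _ _, by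
      rw [Category.assoc, Category.assoc, pullback.condition]⟩

end field

/-- `W` is a finite clopen piece of `R ×_U T` -/
structure IsPiece {a : T ⟶ U} (W : (pullback s a).Opens) : Prop where
  closed : IsClosed (W : Set ↥(pullback s a))
  finite : IsFinite (W.ι ≫ pullback.snd s a)

variable {s}

/-- `g` belongs to the piece `W` over the point `x` -/
def Mem {a : T ⟶ U} (W : (pullback s a).Opens) {K : Type u} [Field K] (x : Spec (CommRingCat.of K) ⟶ T)
    (g : Spec (CommRingCat.of K) ⟶ R) : Prop :=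
  ∃ h : g ≫ s = x ≫ a, ∀ p, pullback.lift g x h p ∈ W

theorem mem_comp {a : T ⟶ U} (W : (pullback s a).Opens) {K L : Type u} [Field K] [Field L]
    (ψ : Spec (CommRingCat.of L) ⟶ Spec (CommRingCat.of K)) (x : Spec (CommRingCat.of K) ⟶ T)
    (g : Spec (CommRingCat.of K) ⟶ R) : Mem W (ψ ≫ x) (ψ ≫ g) ↔ Mem W x g := by
  constructor
  · rintro ⟨h, hp⟩
    have h' : g ≫ s = x ≫ a := hom_ext_field ψ (by simpa only [Category.assoc] using h)
    refine ⟨h', fun q => ?_⟩
    have := hp (IsLocalRing.closedPoint L)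
    rw [show pullback.lift (ψ ≫ g) (ψ ≫ x) h = ψ ≫ pullback.lift g x h' from
      pullback.hom_ext (by simp) (by simp), apply_field ψ _ _ q] at this
    exact this
  · rintro ⟨h, hp⟩
    refine ⟨by rw [Category.assoc, Category.assoc, h], fun q => ?_⟩
    rw [show pullback.lift (ψ ≫ g) (ψ ≫ x) _ = ψ ≫ pullback.lift g x h from
      pullback.hom_ext (by simp) (by simp), Scheme.Hom.comp_apply]
    exact hp _

theorem mem_of_point {a : T ⟶ U} (W : (pullback s a).Opens) {K : Type u} [Field K]
    (l : Spec (CommRingCat.of K) ⟶ pullback s a) :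
    Mem W (l ≫ pullback.snd s a) (l ≫ pullback.fst s a) ↔ ∀ p, l p ∈ W := by
  have h : (l ≫ pullback.fst s a) ≫ s = (l ≫ pullback.snd s a) ≫ a := by
    rw [Category.assoc, Category.assoc, pullback.condition]
  have e : pullback.lift (l ≫ pullback.fst s a) (l ≫ pullback.snd s a) h = l :=
    pullback.hom_ext (by simp) (by simp)
  exact ⟨fun ⟨_, hp⟩ p => by have := hp p; rwa [e] at this, fun hp => ⟨h, fun p => by rw [e]; exact hp p⟩⟩

section pb

variable {a : T ⟶ U} (W : (pullback s a).Opens) (f : T' ⟶ T) {a' : T' ⟶ U} (hf : f ≫ a = a')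

/-- base change map of `R ×_U -` -/
noncomputable def pbMap : pullback s a' ⟶ pullback s a :=
  pullback.lift (pullback.fst s a') (pullback.snd s a' ≫ f)
    (by rw [Category.assoc, hf]; exact pullback.condition)

theorem isPullback_pbMap :
    IsPullback (pbMap (s := s) f hf) (pullback.snd s a') (pullback.snd s a) f := by
  refine IsPullback.of_right ?_ (pullback.lift_snd _ _ _) (IsPullback.of_hasPullback s a)
  rw [pbMap, pullback.lift_fst, hf]
  exact IsPullback.of_hasPullback s a'

/-- pullback of a piece -/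
noncomputable def pb : (pullback s a').Opens := pbMap (s := s) f hf ⁻¹ᵁ W

theorem mem_pb {K : Type u} [Field K] (x : Spec (CommRingCat.of K) ⟶ T')
    (g : Spec (CommRingCat.of K) ⟶ R) : Mem (pb W f hf) x g ↔ Mem W (x ≫ f) g := by
  have key : ∀ (h : g ≫ s = x ≫ a') (h' : g ≫ s = (x ≫ f) ≫ a),
      pullback.lift g x h ≫ pbMap (s := s) f hf = pullback.lift g (x ≫ f) h' := fun h h' => by
    apply pullback.hom_ext <;> simp [pbMap]
  constructor
  · rintro ⟨h, hp⟩
    have h' : g ≫ s = (x ≫ f) ≫ a := by rw [Category.assoc, hf]; exact h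
    refine ⟨h', fun p => ?_⟩
    rw [← key h h', Scheme.Hom.comp_apply]
    exact hp p
  · rintro ⟨h', hp⟩
    have h : g ≫ s = x ≫ a' := by rw [← hf, ← Category.assoc]; exact h'
    refine ⟨h, fun p => ?_⟩
    show (pbMap (s := s) f hf) (pullback.lift g x h p) ∈ W
    rw [← Scheme.Hom.comp_apply, key h h']
    exact hp p

theorem isPiece_pb (hW : IsPiece s W) : IsPiece s (pb W f hf) where
  closed := hW.closed.preimage (pbMap (s := s) f hf).continuous
  finite := MorphismProperty.of_isPullback (P := @IsFinite)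
    ((isPullback_morphismRestrict (pbMap (s := s) f hf) W).paste_vert (isPullback_pbMap f hf)) hW.finite

end pb

/-- two pieces have the same points over `x` and `x'` -/
def SameSet {a : T ⟶ U} (W : (pullback s a).Opens) {a' : T' ⟶ U} (W' : (pullback s a').Opens)
    {K : Type u} [Field K] (x : Spec (CommRingCat.of K) ⟶ T) (x' : Spec (CommRingCat.of K) ⟶ T') : Prop :=
  ∀ (L : Type u) [Field L] (ψ : Spec (CommRingCat.of L) ⟶ Spec (CommRingCat.of K))
    (g : Spec (CommRingCat.of L) ⟶ R), Mem W (ψ ≫ x) g ↔ Mem W' (ψ ≫ x') g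

section agree

variable {a : T ⟶ U} (W W' : (pullback s a).Opens)

/-- the set of points over which two pieces agree -/
def agreeSet : Set T := (pullback.snd s a '' (((W : Set ↥(pullback s a)) \ W') ∪ ((W' : Set ↥(pullback s a)) \ W)))ᶜ

theorem mem_agreeSet_iff {K : Type u} [Field K] (x : Spec (CommRingCat.of K) ⟶ T) (p : ↥(Spec (CommRingCat.of K))) :
    x p ∈ agreeSet W W' ↔ SameSet W W' x x := by
  have hp : p = IsLocalRing.closedPoint K := Subsingleton.elim _ _
  subst hp
  constructor
  · intro h L _ ψ g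
    have aux : ∀ (A B : (pullback s a).Opens), (A : Set ↥(pullback s a)) \ B ⊆
        ((W : Set ↥(pullback s a)) \ W') ∪ ((W' : Set ↥(pullback s a)) \ W) →
        Mem A (ψ ≫ x) g → Mem B (ψ ≫ x) g := by
      rintro A B hAB ⟨h₁, hA⟩
      refine ⟨h₁, fun p => by_contra fun hB => h ⟨_, hAB ⟨hA p, hB⟩, ?_⟩⟩
      rw [← Scheme.Hom.comp_apply, pullback.lift_snd, Scheme.Hom.comp_apply,
        Subsingleton.elim (ψ p) (IsLocalRing.closedPoint K)]
    exact ⟨aux W W' Set.subset_union_left, aux W' W Set.subset_union_right⟩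
  · rintro h ⟨z, hz, hzx⟩
    obtain ⟨M, _, ψ, y, hy, hyz⟩ := exists_lift_field (pullback.snd s a) x z hzx
    have := h M ψ (y ≫ pullback.fst s a)
    rw [← hy, mem_of_point, mem_of_point] at this
    simp only [hyz] at this
    have h2 : z ∈ W ↔ z ∈ W' := ⟨fun hw => this.1 (fun _ => hw) (IsLocalRing.closedPoint M),
      fun hw => this.2 (fun _ => hw) (IsLocalRing.closedPoint M)⟩
    rcases hz with ⟨h3, h4⟩ | ⟨h3, h4⟩
    · exact h4 (h2.1 h3)
    · exact h4 (h2.2 h3)

theorem isClopen_agreeSet [Flat s] [LocallyOfFinitePresentation s] (hW : IsPiece s W) (hW' : IsPiece s W') :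
    IsClopen (agreeSet W W') := by
  have hcl : ∀ (A B : (pullback s a).Opens), IsPiece s A →
      IsClosed (pullback.snd s a '' ((A : Set ↥(pullback s a)) \ B)) := by
    intro A B hA
    haveI := hA.finite
    have : pullback.snd s a '' ((A : Set ↥(pullback s a)) \ B) =
        (A.ι ≫ pullback.snd s a) '' (A.ι ⁻¹' (B : Set ↥(pullback s a))ᶜ) := by
      rw [Scheme.Hom.comp_base, TopCat.coe_comp, Set.image_comp, Set.image_preimage_eq_inter_range,
        Scheme.Opens.range_ι, Set.inter_comm]
      rfl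
    rw [this]
    exact (A.ι ≫ pullback.snd s a).isClosedMap _ (B.2.isClosed_compl.preimage A.ι.continuous)
  refine ⟨isClosed_compl_iff.2 ((pullback.snd s a).isOpenMap _
    ((W.2.sdiff hW'.closed).union (W'.2.sdiff hW.closed))), ?_⟩
  rw [agreeSet, Set.image_union]
  exact ((hcl W W' hW).union (hcl W' W hW')).isOpen_compl

end agree

end Groth.Agent.GrpdSplit
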