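import Groth.Agent.Grpd.OverField
import Groth.Prelude.Def_Grpd

/-!
# Restriction of a groupoid scheme along a morphism to its objects; open subgroupoids
-/

universe u

open CategoryTheory CategoryTheory.Limits AlgebraicGeometry

set_option backward.isDefEq.respectTransparency false

namespace Groth.Agent.GrpdSplit

open Groth.Agent.GrpdLib

variable {S : Scheme.{u}} (G : Grpd.GroupoidScheme S) {W : Scheme.{u}} (φ : W ⟶ G.U)

/-- `W ×_S W → U ×_S U` -/
noncomputable def prodMap : pullback (φ ≫ G.pU) (φ ≫ G.pU) ⟶ pullback G.pU G.pU :=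
  pullback.map (φ ≫ G.pU) (φ ≫ G.pU) G.pU G.pU φ φ (𝟙 S) (Category.comp_id _) (Category.comp_id _)

/-- arrows of the restriction -/
noncomputable abbrev RR : Scheme.{u} := pullback G.j (prodMap G φ)

/-- source of the restriction -/
noncomputable def rs : RR G φ ⟶ W := pullback.snd G.j (prodMap G φ) ≫ pullback.snd _ _

/-- target of the restriction -/
noncomputable def rt : RR G φ ⟶ W := pullback.snd G.j (prodMap G φ) ≫ pullback.fst _ _

/-- the map to the arrows of `G` -/
noncomputable def rr : RR G φ ⟶ G.R := pullback.fst G.j (prodMap G φ)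

lemma rr_s : rr G φ ≫ G.s = rs G φ ≫ φ := by
  rw [rr, rs, ← show G.j ≫ pullback.snd G.pU G.pU = G.s from pullback.lift_snd _ _ _, pullback.condition_assoc,
    Category.assoc]
  simp [prodMap]

lemma rr_t : rr G φ ≫ G.t = rt G φ ≫ φ := by
  rw [rr, rt, ← show G.j ≫ pullback.fst G.pU G.pU = G.t from pullback.lift_fst _ _ _, pullback.condition_assoc,
    Category.assoc]
  simp [prodMap]

/-- a point of the restriction -/
noncomputable def rmk {T : Scheme.{u}} (g : T ⟶ G.R) (a b : T ⟶ W) (ha : g ≫ G.t = a ≫ φ)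
    (hb : g ≫ G.s = b ≫ φ) : T ⟶ RR G φ :=
  pullback.lift g (pullback.lift a b (by
      rw [← Category.assoc, ← ha, ← Category.assoc, ← hb, Category.assoc, Category.assoc, G.t_over, G.s_over])) (by
    apply pullback.hom_ext
    · simp [Grpd.GroupoidScheme.j, prodMap, ha]
    · simp [Grpd.GroupoidScheme.j, prodMap, hb])

variable {T : Scheme.{u}} (g : T ⟶ G.R) (a b : T ⟶ W) (ha : g ≫ G.t = a ≫ φ) (hb : g ≫ G.s = b ≫ φ)

@[simp] lemma rmk_rr : rmk G φ g a b ha hb ≫ rr G φ = g := pullback.lift_fst _ _ _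
@[simp] lemma rmk_rs : rmk G φ g a b ha hb ≫ rs G φ = b := by simp [rmk, rs]
@[simp] lemma rmk_rt : rmk G φ g a b ha hb ≫ rt G φ = a := by simp [rmk, rt]

@[simp] lemma rmk_rs_assoc' {Z : Scheme.{u}} (h : W ⟶ Z) : rmk G φ g a b ha hb ≫ rs G φ ≫ h = b ≫ h := by
  rw [← Category.assoc, rmk_rs]

@[simp] lemma rmk_rt_assoc' {Z : Scheme.{u}} (h : W ⟶ Z) : rmk G φ g a b ha hb ≫ rt G φ ≫ h = a ≫ h := by
  rw [← Category.assoc, rmk_rt]

lemma rext {x y : T ⟶ RR G φ} (h₁ : x ≫ rr G φ = y ≫ rr G φ) (h₂ : x ≫ rt G φ = y ≫ rt G φ)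
    (h₃ : x ≫ rs G φ = y ≫ rs G φ) : x = y := by
  apply pullback.hom_ext h₁
  apply pullback.hom_ext
  · simpa [rt] using h₂
  · simpa [rs] using h₃

/-- the restriction of `G` along `φ` -/
noncomputable def rgrp : Grpd.GroupoidScheme S where
  U := W
  R := RR G φ
  pU := φ ≫ G.pU
  pR := rs G φ ≫ φ ≫ G.pU
  s := rs G φ
  t := rt G φ
  e := rmk G φ (φ ≫ G.e) (𝟙 W) (𝟙 W) (by simp [G.e_t]) (by simp [G.e_s])
  i := rmk G φ (rr G φ ≫ G.i) (rs G φ) (rt G φ) (by rw [Category.assoc, G.i_t, rr_s])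
    (by rw [Category.assoc, G.i_s, rr_t])
  c := rmk G φ (gmul G (pullback.fst _ _ ≫ rr G φ) (pullback.snd _ _ ≫ rr G φ)
      (by rw [Category.assoc, Category.assoc, rr_s, rr_t, pullback.condition_assoc]))
    (pullback.fst _ _ ≫ rt G φ) (pullback.snd _ _ ≫ rs G φ)
    (by rw [gmul_t, Category.assoc, rr_t, Category.assoc]) (by rw [gmul_s, Category.assoc, rr_s, Category.assoc])
  s_over := rfl
  t_over := by
    rw [← Category.assoc, ← rr_t, ← Category.assoc (rs G φ), ← rr_s, Category.assoc, Category.assoc, G.t_over,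
      G.s_over]
  comp_s α β h := by simp [Category.assoc]
  comp_t α β h := by simp [Category.assoc]
  assoc α β γ h₁ h₂ := by
    apply rext G φ <;> simp only [Category.assoc, rmk_rr, rmk_rt, rmk_rs, comp_gmul, pullback.lift_fst_assoc,
      pullback.lift_snd_assoc]
    simp only [gmul_eq]
    exact G.assoc _ _ _ (by simp only [Category.assoc, rr_s, rr_t, reassoc_of% h₁])
      (by simp only [Category.assoc, rr_s, rr_t, reassoc_of% h₂])
  e_s := rmk_rs ..
  e_t := rmk_rt ..
  comp_e α := by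
    apply rext G φ <;> simp only [Category.assoc, rmk_rr, rmk_rt, rmk_rs, comp_gmul, pullback.lift_fst_assoc,
      pullback.lift_snd_assoc, Category.comp_id]
    simp only [gmul_eq]
    refine (comp_congr G rfl ?_ _ ?_).trans (G.comp_e (α ≫ rr G φ))
    · rw [Category.assoc, ← Category.assoc (rr G φ), rr_s, Category.assoc]
    · simp [Category.assoc, G.e_t]
  e_comp α := by
    apply rext G φ <;> simp only [Category.assoc, rmk_rr, rmk_rt, rmk_rs, comp_gmul, pullback.lift_fst_assoc,
      pullback.lift_snd_assoc, Category.comp_id]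
    simp only [gmul_eq]
    refine (comp_congr G ?_ rfl _ ?_).trans (G.e_comp (α ≫ rr G φ))
    · rw [Category.assoc, ← Category.assoc (rr G φ), rr_t, Category.assoc]
    · simp [Category.assoc, G.e_s]
  i_s := rmk_rs ..
  i_t := rmk_rt ..
  comp_i α := by
    apply rext G φ <;> simp only [Category.assoc, rmk_rr, rmk_rt, rmk_rs, comp_gmul, pullback.lift_fst_assoc,
      pullback.lift_snd_assoc, Category.comp_id]
    simp only [gmul_eq]
    refine (comp_congr G rfl (Category.assoc _ _ _).symm _ (by simp [Category.assoc, G.i_t])).trans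
      ((G.comp_i (α ≫ rr G φ)).trans ?_)
    rw [Category.assoc, ← Category.assoc (rr G φ), rr_t, Category.assoc]
  i_comp α := by
    apply rext G φ <;> simp only [Category.assoc, rmk_rr, rmk_rt, rmk_rs, comp_gmul, pullback.lift_fst_assoc,
      pullback.lift_snd_assoc, Category.comp_id]
    simp only [gmul_eq]
    refine (comp_congr G (Category.assoc _ _ _).symm rfl _ (by simp [Category.assoc, G.i_s])).trans
      ((G.i_comp (α ≫ rr G φ)).trans ?_)
    rw [Category.assoc, ← Category.assoc (rr G φ), rr_s, Category.assoc]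

/-- the projection of the restriction -/
noncomputable def rhom : Grpd.GroupoidScheme.Hom (rgrp G φ) G where
  fU := φ
  fR := rr G φ
  fU_over := rfl
  comm_s := rr_s G φ
  comm_t := rr_t G φ
  comm_c α β h := by
    simp only [rgrp, Category.assoc, rmk_rr, comp_gmul, pullback.lift_fst_assoc, pullback.lift_snd_assoc]
    rw [gmul_eq]

lemma rgrp_j : (rgrp G φ).j = pullback.snd G.j (prodMap G φ) := by
  apply pullback.hom_ext
  · simp [rgrp, Grpd.GroupoidScheme.j, rt]
  · simp [rgrp, Grpd.GroupoidScheme.j, rs]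

lemma isPullback_rhom : IsPullback (rhom G φ).fR (rgrp G φ).j G.j
    (pullback.map (rgrp G φ).pU (rgrp G φ).pU G.pU G.pU φ φ (𝟙 S)
      (Category.comp_id _) (Category.comp_id _)) := by
  rw [rgrp_j]
  exact IsPullback.of_hasPullback G.j (prodMap G φ)

section sub

variable (O : G.R.Opens)

/-- an open set of arrows closed under the operations -/
structure IsSubgrp : Prop where
  e_mem : ∀ x, G.e x ∈ O
  i_mem : ∀ r ∈ O, G.i r ∈ O
  c_mem : ∀ p : ↥(pullback G.s G.t), pullback.fst G.s G.t p ∈ O → pullback.snd G.s G.t p ∈ O → G.c p ∈ O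

variable {G O} (hO : IsSubgrp G O)

/-- units of a subgroupoid -/
noncomputable def subE : G.U ⟶ O :=
  IsOpenImmersion.lift O.ι G.e (by rintro _ ⟨x, rfl⟩; rw [Scheme.Opens.range_ι]; exact hO.e_mem x)

/-- inverse of a subgroupoid -/
noncomputable def subI : O.toScheme ⟶ O :=
  IsOpenImmersion.lift O.ι (O.ι ≫ G.i) (by rintro _ ⟨x, rfl⟩; rw [Scheme.Opens.range_ι]; exact hO.i_mem _ x.2)

/-- composition of a subgroupoid -/
noncomputable def subC : pullback (O.ι ≫ G.s) (O.ι ≫ G.t) ⟶ O :=
  IsOpenImmersion.lift O.ι (pullback.map (O.ι ≫ G.s) (O.ι ≫ G.t) G.s G.t O.ι O.ι (𝟙 G.U)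
    (Category.comp_id _) (Category.comp_id _) ≫ G.c) (by
    rintro _ ⟨x, rfl⟩
    rw [Scheme.Opens.range_ι, Scheme.Hom.comp_apply]
    refine hO.c_mem _ ?_ ?_
    · rw [← Scheme.Hom.comp_apply, pullback.map, pullback.lift_fst, Scheme.Hom.comp_apply]
      exact Subtype.prop _
    · rw [← Scheme.Hom.comp_apply, pullback.map, pullback.lift_snd, Scheme.Hom.comp_apply]
      exact Subtype.prop _)

lemma subE_ι : subE hO ≫ O.ι = G.e := IsOpenImmersion.lift_fac _ _ _
lemma subI_ι : subI hO ≫ O.ι = O.ι ≫ G.i := IsOpenImmersion.lift_fac _ _ _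

lemma subC_ι {T : Scheme.{u}} (α β : T ⟶ O.toScheme) (h : α ≫ O.ι ≫ G.s = β ≫ O.ι ≫ G.t) :
    (pullback.lift α β h ≫ subC hO) ≫ O.ι = pullback.lift (α ≫ O.ι) (β ≫ O.ι)
      (by rw [Category.assoc, Category.assoc]; exact h) ≫ G.c := by
  rw [Category.assoc, subC, IsOpenImmersion.lift_fac, ← Category.assoc]
  congr 1
  apply pullback.hom_ext <;> simp

/-- an open subgroupoid as a groupoid scheme -/
noncomputable def sgrp : Grpd.GroupoidScheme S where
  U := G.U
  R := O
  pU := G.pU
  pR := O.ι ≫ G.pR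
  s := O.ι ≫ G.s
  t := O.ι ≫ G.t
  e := subE hO
  i := subI hO
  c := subC hO
  s_over := by rw [Category.assoc, G.s_over]
  t_over := by rw [Category.assoc, G.t_over]
  comp_s α β h := by
    rw [← Category.assoc, subC_ι, G.comp_s, Category.assoc]
  comp_t α β h := by
    rw [← Category.assoc, subC_ι, G.comp_t, Category.assoc]
  assoc α β γ h₁ h₂ := by
    rw [← cancel_mono O.ι]
    refine (subC_ι hO _ γ _).trans (Eq.trans ?_ (subC_ι hO α _ _).symm)
    exact (comp_congr G (subC_ι hO α β h₁) rfl _ ((G.comp_s _ _ _).trans (by simpa [Category.assoc] using h₂))).trans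
      ((G.assoc _ _ _ (by simpa [Category.assoc] using h₁) (by simpa [Category.assoc] using h₂)).trans
        (comp_congr G rfl (subC_ι hO β γ h₂).symm _ _))
  e_s := by rw [← Category.assoc, subE_ι, G.e_s]
  e_t := by rw [← Category.assoc, subE_ι, G.e_t]
  comp_e α := by
    rw [← cancel_mono O.ι, subC_ι]
    exact (comp_congr G rfl (by simp [Category.assoc, subE_ι]) _ (by simp [G.e_t])).trans (G.comp_e (α ≫ O.ι))
  e_comp α := by
    rw [← cancel_mono O.ι, subC_ι]
    exact (comp_congr G (by simp [Category.assoc, subE_ι]) rfl _ (by simp [G.e_s])).trans (G.e_comp (α ≫ O.ι))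
  i_s := by rw [← Category.assoc, subI_ι, Category.assoc, G.i_s]
  i_t := by rw [← Category.assoc, subI_ι, Category.assoc, G.i_t]
  comp_i α := by
    rw [← cancel_mono O.ι, subC_ι]
    exact (comp_congr G rfl (by simp [Category.assoc, subI_ι]) _ (by simp [G.i_t])).trans
      ((G.comp_i (α ≫ O.ι)).trans (by simp [Category.assoc, subE_ι]))
  i_comp α := by
    rw [← cancel_mono O.ι, subC_ι]
    exact (comp_congr G (by simp [Category.assoc, subI_ι]) rfl _ (by simp [G.i_s])).trans
      ((G.i_comp (α ≫ O.ι)).trans (by simp [Category.assoc, subE_ι]))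

end sub

end Groth.Agent.GrpdSplit
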