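import Groth.Agent.GrpdSplit.Pieces
import Groth.Agent.EtPieceQuot.Basic
import Groth.Agent.TwConst.EtaleNbhd
import Groth.Agent.FpqcDescent.Props
import Mathlib.AlgebraicGeometry.Morphisms.QuasiSeparated

/-!
# A separated étale space of pieces with injective field points
-/

universe u

open CategoryTheory CategoryTheory.Limits AlgebraicGeometry

set_option backward.isDefEq.respectTransparency false

namespace Groth.Agent.GrpdSplit

theorem exists_moduli {R U : Scheme.{u}} [IsAffine U] (s : R ⟶ U) [IsSeparated s] [Flat s]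
    [LocallyOfFinitePresentation s] (e : U ⟶ R) (he : e ≫ s = 𝟙 U) (u : U) (L : Set R) (hL : L.Finite)
    (hs : ∀ r ∈ L, s r = u) (hqf : ∀ r ∈ L, s.QuasiFiniteAt r) (heL : e u ∈ L) :
    ∃ (Q : Scheme.{u}) (b : Q ⟶ U) (q₀ : Q) (F : (pullback s b).Opens),
      Etale b ∧ IsSeparated b ∧ b q₀ = u ∧ IsIso (b.residueFieldMap q₀) ∧ IsPiece s F ∧
      (∀ z : ↥(pullback s b), pullback.snd s b z = q₀ → (z ∈ F ↔ pullback.fst s b z ∈ L)) ∧
      (∀ (K : Type u) [Field K] (x : Spec (CommRingCat.of K) ⟶ Q), Mem F x ((x ≫ b) ≫ e)) ∧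
      ∀ (K : Type u) [Field K] (x y : Spec (CommRingCat.of K) ⟶ Q), x ≫ b = y ≫ b → SameSet F F x y → x = y := by
  classical
  obtain ⟨n, xs, hxs⟩ : ∃ (n : ℕ) (xs : Fin n → R), Set.range xs = L := by
    haveI := hL.to_subtype
    obtain ⟨n, ⟨eq⟩⟩ := Finite.exists_equiv_fin L
    exact ⟨n, fun i => (eq.symm i : R), by rw [← Function.comp_def, eq.symm.surjective.range_comp]; simp⟩
  have hmem : ∀ i, xs i ∈ L := fun i => hxs ▸ Set.mem_range_self i
  obtain ⟨U₀, g, u₀, hg, hgu, hgk, V, v, hv⟩ := TwConst.exists_nbhd_points s u xs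
    (fun i => hs _ (hmem i)) (fun i => hqf _ (hmem i))
  obtain ⟨W₀, hW₀f, hW₀⟩ : ∃ W₀ : (pullback s g).Opens, IsFinite (W₀.ι ≫ pullback.snd s g) ∧
      (W₀ : Set ↥(pullback s g)) = ⋃ i, (V i : Set ↥(pullback s g)) := by
    suffices H : ∀ t : Finset (Fin n), ∃ W₀ : (pullback s g).Opens, IsFinite (W₀.ι ≫ pullback.snd s g) ∧
        (W₀ : Set ↥(pullback s g)) = ⋃ i ∈ t, (V i : Set ↥(pullback s g)) by
      obtain ⟨W₀, h₁, h₂⟩ := H Finset.univ
      exact ⟨W₀, h₁, h₂.trans (by simp)⟩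
    intro t
    induction t using Finset.induction with
    | empty =>
      haveI : IsEmpty (⊥ : (pullback s g).Opens).toScheme := ⟨fun x => x.2⟩
      exact ⟨⊥, inferInstance, by simp⟩
    | insert i t _ ih =>
      obtain ⟨W₀, h₁, h₂⟩ := ih
      haveI := h₁
      haveI := (hv i).2.1
      exact ⟨V i ⊔ W₀, TwConst.isFinite_sup _ _ _, by simp [h₂]⟩
  haveI := hW₀f
  have hW₀p : IsPiece s W₀ := ⟨by
    haveI : IsFinite W₀.ι := IsFinite.of_comp W₀.ι (pullback.snd s g)
    have := W₀.ι.isClosedMap.isClosed_range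
    rwa [Scheme.Opens.range_ι] at this, hW₀f⟩
  haveI := hgk
  have hfib₀ : ∀ z : ↥(pullback s g), pullback.snd s g z = u₀ → (z ∈ W₀ ↔ pullback.fst s g z ∈ L) := by
    intro z hz
    rw [← SetLike.mem_coe, hW₀, Set.mem_iUnion]
    constructor
    · rintro ⟨i, hi⟩
      rw [(hv i).2.2.2.1 z hi hz, (hv i).2.2.2.2]
      exact hmem i
    · intro hzL
      rw [← hxs] at hzL
      obtain ⟨i, hi⟩ := hzL
      refine ⟨i, ?_⟩
      rw [TwConst.eq_of_fst_eq s g u₀ hz (hv i).2.2.1 (by rw [(hv i).2.2.2.2, hi])]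
      exact (hv i).1
  -- shrink
  let ε : U₀ ⟶ pullback s g := pullback.lift (g ≫ e) (𝟙 U₀) (by rw [Category.assoc, he, Category.comp_id, Category.id_comp])
  have hεu : u₀ ∈ ε ⁻¹ᵁ W₀ := by
    refine (hfib₀ (ε u₀) ?_).2 ?_
    · rw [← Scheme.Hom.comp_apply, pullback.lift_snd]; rfl
    · rw [← Scheme.Hom.comp_apply, pullback.lift_fst, Scheme.Hom.comp_apply, hgu]; exact heL
  obtain ⟨U₁, hU₁, hu₁, hsub⟩ := exists_isAffineOpen_mem_and_subset (x := u₀) (U := ε ⁻¹ᵁ W₀) hεu
  haveI : IsAffine U₁.toScheme := hU₁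
  let a := U₁.ι ≫ g
  let W₁ : (pullback s a).Opens := pb W₀ U₁.ι rfl
  have hW₁ : IsPiece s W₁ := isPiece_pb W₀ _ _ hW₀p
  have heW₁ : ∀ (K : Type u) [Field K] (x : Spec (CommRingCat.of K) ⟶ U₁), Mem W₁ x ((x ≫ a) ≫ e) := by
    intro K _ x
    rw [mem_pb]
    refine ⟨by rw [Category.assoc, he, Category.comp_id, Category.assoc], fun p => ?_⟩
    have e1 : pullback.lift ((x ≫ a) ≫ e) (x ≫ U₁.ι) (by rw [Category.assoc, he, Category.comp_id, Category.assoc]) =
        (x ≫ U₁.ι) ≫ ε := by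
      apply pullback.hom_ext <;> simp [a, ε]
    rw [e1, Scheme.Hom.comp_apply]
    refine hsub ?_
    rw [Scheme.Hom.comp_apply]
    exact (x p).2
  -- the relation
  let W' := pb W₁ (pullback.fst a a) (a' := pullback.fst a a ≫ a) rfl
  let W'' := pb W₁ (pullback.snd a a) (a' := pullback.fst a a ≫ a) pullback.condition.symm
  have hagree := isClopen_agreeSet W' W'' (isPiece_pb _ _ _ hW₁) (isPiece_pb _ _ _ hW₁)
  let E : (pullback a a).Opens := ⟨agreeSet W' W'', hagree.isOpen⟩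
  have hsame : ∀ (K : Type u) [Field K] (x y : Spec (CommRingCat.of K) ⟶ U₁),
      EtPieceQuot.RelPt a E x y ↔ x ≫ a = y ≫ a ∧ SameSet W₁ W₁ x y := by
    intro K _ x y
    have key : ∀ (h : x ≫ a = y ≫ a) (p : ↥(Spec (CommRingCat.of K))),
        pullback.lift x y h p ∈ E ↔ SameSet W₁ W₁ x y := by
      intro h p
      refine (mem_agreeSet_iff W' W'' (pullback.lift x y h) p).trans ?_
      refine forall_congr' fun M => forall_congr' fun _ => forall_congr' fun ψ => forall_congr' fun k => ?_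
      refine iff_congr ((mem_pb W₁ (pullback.fst a a) rfl _ k).trans ?_) ((mem_pb W₁ (pullback.snd a a) pullback.condition.symm _ k).trans ?_)
      · rw [Category.assoc, pullback.lift_fst]
      · rw [Category.assoc, pullback.lift_snd]
    exact ⟨fun ⟨h, hp⟩ => ⟨h, (key h (IsLocalRing.closedPoint K)).1 (hp _)⟩,
      fun ⟨h, hh⟩ => ⟨h, fun p => (key h p).2 hh⟩⟩
  haveI : Etale a := inferInstance
  obtain ⟨Q, π, b, hπb, hb, hbs, hπe, hπs, hker⟩ := EtPieceQuot.exists_quotient a E hagree.isClosed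
    (fun K _ x => (hsame K x x).2 ⟨rfl, fun M _ ψ k => Iff.rfl⟩)
    (fun K _ x y h => by
      obtain ⟨h₁, h₂⟩ := (hsame K x y).1 h
      exact (hsame K y x).2 ⟨h₁.symm, fun M _ ψ k => (h₂ M ψ k).symm⟩)
    (fun K _ x y z h h' => by
      obtain ⟨h₁, h₂⟩ := (hsame K x y).1 h
      obtain ⟨h₁', h₂'⟩ := (hsame K y z).1 h'
      exact (hsame K x z).2 ⟨h₁.trans h₁', fun M _ ψ k => (h₂ M ψ k).trans (h₂' M ψ k)⟩)
  haveI := hb; haveI := hbs; haveI := hπe; haveI := hπs
  have hrelπ : ∀ (K : Type u) [Field K] (x y : Spec (CommRingCat.of K) ⟶ U₁),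
      x ≫ π = y ≫ π ↔ EtPieceQuot.RelPt a E x y := by
    intro K _ x y
    constructor
    · intro h
      refine ⟨by rw [← hπb, reassoc_of% h], fun p => ?_⟩
      have e1 : ∀ hh : x ≫ a = y ≫ a, pullback.lift x y hh = hker.lift x y h ≫ E.ι := fun hh => by
        apply pullback.hom_ext
        · rw [pullback.lift_fst, Category.assoc, hker.lift_fst]
        · rw [pullback.lift_snd, Category.assoc, hker.lift_snd]
      rw [e1, Scheme.Hom.comp_apply]
      exact (hker.lift x y h p).2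
    · rintro ⟨h, hp⟩
      let l := IsOpenImmersion.lift E.ι (pullback.lift x y h) (by
        rintro _ ⟨p, rfl⟩; rw [Scheme.Opens.range_ι]; exact hp p)
      have hl : l ≫ E.ι = pullback.lift x y h := IsOpenImmersion.lift_fac _ _ _
      have h1 : l ≫ E.ι ≫ pullback.fst a a = x := by rw [reassoc_of% hl, pullback.lift_fst]
      have h2 : l ≫ E.ι ≫ pullback.snd a a = y := by rw [reassoc_of% hl, pullback.lift_snd]
      rw [← h1, ← h2]
      simp only [Category.assoc]
      exact congrArg (l ≫ ·) (by simpa only [Category.assoc] using hker.w)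
  let m := pbMap (s := s) π hπb
  have hm := isPullback_pbMap (s := s) π hπb
  haveI hme : Etale m := MorphismProperty.of_isPullback hm.flip hπe
  haveI hms : Surjective m := MorphismProperty.of_isPullback hm.flip hπs
  have hsat : ∀ z z' : ↥(pullback s a), z ∈ W₁ → m z = m z' → z' ∈ W₁ := by
    intro z z' hz hzz
    obtain ⟨M, _, ψ, φ, hψ⟩ := exists_common_field m
      ((pullback s a).fromSpecResidueField z ≫ m) ((pullback s a).fromSpecResidueField z') (by
        exact ((congrArg m ((pullback s a).fromSpecResidueField_apply z' _)).trans hzz.symm).trans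
          (congrArg m ((pullback s a).fromSpecResidueField_apply z _)).symm)
    let l := ψ ≫ (pullback s a).fromSpecResidueField z
    let l' := φ ≫ (pullback s a).fromSpecResidueField z'
    have hll : l ≫ m = l' ≫ m := by simp only [l, l', Category.assoc]; exact hψ.symm
    have hlz : ∀ p, l p = z := fun p => by
      rw [Scheme.Hom.comp_apply]; exact (pullback s a).fromSpecResidueField_apply z _
    have hlz' : ∀ p, l' p = z' := fun p => by
      rw [Scheme.Hom.comp_apply]; exact (pullback s a).fromSpecResidueField_apply z' _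
    have h1 : l ≫ pullback.fst s a = l' ≫ pullback.fst s a := by
      have := congrArg (· ≫ pullback.fst s b) hll
      simpa [m, pbMap] using this
    have h2 : (l ≫ pullback.snd s a) ≫ π = (l' ≫ pullback.snd s a) ≫ π := by
      have := congrArg (· ≫ pullback.snd s b) hll
      simpa [m, pbMap] using this
    have hS := ((hsame M _ _).1 ((hrelπ M _ _).1 h2)).2 M (𝟙 _) (l ≫ pullback.fst s a)
    rw [Category.id_comp, Category.id_comp, mem_of_point] at hS
    have := hS.1 (fun p => by rw [hlz]; exact hz)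
    rw [h1, mem_of_point] at this
    simpa [hlz'] using this (IsLocalRing.closedPoint M)
  let F : (pullback s b).Opens := ⟨m '' (W₁ : Set ↥(pullback s a)), m.isOpenMap _ W₁.2⟩
  have hpre : ∀ z : ↥(pullback s a), m z ∈ F ↔ z ∈ W₁ := fun z =>
    ⟨fun ⟨w, hw, hwz⟩ => hsat w z hw hwz, fun h => ⟨z, h, rfl⟩⟩
  have hW₁F : W₁ = pb F π hπb := TopologicalSpace.Opens.ext (Set.ext fun z => (hpre z).symm)
  haveI : QuasiCompact π := by
    haveI : QuasiCompact (π ≫ b) := by rw [hπb]; infer_instance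
    exact QuasiCompact.of_comp π b
  have hF : IsPiece s F := by
    refine ⟨?_, ?_⟩
    · have : (F : Set ↥(pullback s b))ᶜ = m '' (W₁ : Set ↥(pullback s a))ᶜ := by
        ext w
        obtain ⟨z, rfl⟩ := m.surjective w
        constructor
        · intro h; exact ⟨z, fun hz => h ((hpre z).2 hz), rfl⟩
        · rintro ⟨z', hz', he'⟩ h
          exact hz' (hsat z z' ((hpre z).1 h) he'.symm)
      rw [← isOpen_compl_iff, this]
      exact m.isOpenMap _ hW₁.closed.isOpen_compl
    · have hfin : IsFinite ((pb F π hπb).ι ≫ pullback.snd s a) := hW₁F ▸ hW₁.finite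
      exact MorphismProperty.of_isPullback_of_descendsAlong (P := @IsFinite)
        (Q := @Surjective ⊓ @Flat ⊓ @QuasiCompact)
        ((isPullback_morphismRestrict m F).paste_vert hm).flip ⟨⟨hπs, inferInstance⟩, inferInstance⟩ hfin
  refine ⟨Q, b, π ⟨u₀, hu₁⟩, F, hb, hbs, ?_, ?_, hF, ?_, ?_, ?_⟩
  · rw [← Scheme.Hom.comp_apply, hπb]; exact hgu
  · have hiso : IsIso (a.residueFieldMap ⟨u₀, hu₁⟩) := by
      rw [Scheme.residueFieldMap_comp]
      haveI : IsIso (g.residueFieldMap (U₁.ι ⟨u₀, hu₁⟩)) := hgk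
      infer_instance
    rw [show a = π ≫ b from hπb.symm, Scheme.residueFieldMap_comp] at hiso
    rw [ConcreteCategory.isIso_iff_bijective] at hiso ⊢
    refine ⟨RingHom.injective _, fun z => ?_⟩
    obtain ⟨w, hw⟩ := hiso.2 ((π.residueFieldMap ⟨u₀, hu₁⟩) z)
    exact ⟨w, RingHom.injective (π.residueFieldMap ⟨u₀, hu₁⟩).hom hw⟩
  · intro z hz
    obtain ⟨z₀, h₁, h₂⟩ := Scheme.Pullback.exists_preimage_pullback (f := pullback.snd s b) (g := π) z ⟨u₀, hu₁⟩ hz
    obtain ⟨z', hz'₁, hz'₂⟩ : ∃ z' : ↥(pullback s a), m z' = z ∧ pullback.snd s a z' = ⟨u₀, hu₁⟩ :=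
      ⟨hm.isoPullback.inv z₀, by rw [← Scheme.Hom.comp_apply, hm.isoPullback_inv_fst]; exact h₁,
        by rw [← Scheme.Hom.comp_apply, hm.isoPullback_inv_snd]; exact h₂⟩
    subst hz'₁
    rw [hpre]
    refine (hfib₀ (pbMap (s := s) U₁.ι rfl z') ?_).trans ?_
    · rw [← Scheme.Hom.comp_apply, pbMap, pullback.lift_snd, Scheme.Hom.comp_apply, hz'₂]; rfl
    · have e1 : pbMap (s := s) U₁.ι rfl ≫ pullback.fst s g = pullback.fst s a := pullback.lift_fst _ _ _
      have e2 : m ≫ pullback.fst s b = pullback.fst s a := pullback.lift_fst _ _ _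
      rw [← Scheme.Hom.comp_apply, e1, ← Scheme.Hom.comp_apply, e2]
  · intro K _ x
    obtain ⟨M, _, ψ, x', hx', -⟩ := exists_lift_field π x
      (π.surjective (x (IsLocalRing.closedPoint K))).choose (π.surjective _).choose_spec
    refine (mem_comp F ψ x ((x ≫ b) ≫ e)).1 ?_
    rw [← hx', ← mem_pb F π hπb, ← hW₁F]
    have := heW₁ M x'
    have e1 : (x' ≫ a) ≫ e = ψ ≫ (x ≫ b) ≫ e := by
      have h1 : x' ≫ a = ψ ≫ x ≫ b := by
        calc x' ≫ a = (x' ≫ π) ≫ b := by rw [Category.assoc, hπb]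
          _ = ψ ≫ x ≫ b := by rw [hx', Category.assoc]
      rw [h1, Category.assoc]
    rwa [e1] at this
  · intro K _ x y hxy hS
    obtain ⟨z₁, hz₁⟩ := π.surjective (x (IsLocalRing.closedPoint K))
    obtain ⟨M, _, ψ, x', hx', -⟩ := exists_lift_field π x z₁ hz₁
    obtain ⟨z₂, hz₂⟩ := π.surjective ((ψ ≫ y) (IsLocalRing.closedPoint M))
    obtain ⟨M', _, ψ', y', hy', -⟩ := exists_lift_field π (ψ ≫ y) z₂ hz₂
    refine hom_ext_field (ψ' ≫ ψ) ?_
    rw [Category.assoc, Category.assoc, ← hx', ← hy', ← Category.assoc, hrelπ, hsame]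
    refine ⟨?_, fun M'' _ φ k => ?_⟩
    · rw [← hπb, Category.assoc, reassoc_of% hx', reassoc_of% hy', hxy]
    · rw [hW₁F, mem_pb, mem_pb]
      have := hS M'' (φ ≫ ψ' ≫ ψ) k
      simpa only [Category.assoc, hx', hy'] using this

end Groth.Agent.GrpdSplit
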