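import Groth.Agent.GrpdSplit.Finite
import Groth.Agent.GrpdSplit.Chart
import Groth.Agent.Grpd.InvAffine

/-!
# Étale localisations splitting off a finite subgroupoid
-/

universe u

open CategoryTheory CategoryTheory.Limits AlgebraicGeometry

set_option backward.isDefEq.respectTransparency false

namespace Groth.Agent.GrpdSplit

open Groth.Agent.GrpdLib

variable {S : Scheme.{u}}

theorem isIso_i (H : Grpd.GroupoidScheme S) : IsIso H.i := ⟨H.i, i_i H, i_i H⟩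

theorem props_t (H : Grpd.GroupoidScheme S) [IsFinite H.s] [Flat H.s] [LocallyOfFinitePresentation H.s] :
    IsFinite H.t ∧ Flat H.t ∧ LocallyOfFinitePresentation H.t := by
  haveI := isIso_i H
  rw [← H.i_s]
  exact ⟨inferInstance, inferInstance, inferInstance⟩

theorem exists_split (G : Grpd.GroupoidScheme S) [IsAffine G.U]
    [IsSeparated G.s] [Flat G.s] [LocallyOfFinitePresentation G.s]
    (u : G.U) (L : Set G.R) (hL : L.Finite) (hs : ∀ r ∈ L, G.s r = u) (ht : ∀ r ∈ L, G.t r = u)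
    (hqf : ∀ r ∈ L, G.s.QuasiFiniteAt r) (heL : G.e u ∈ L)
    (hcl : ∀ (K : Type u) [Field K] (g h : Spec (CommRingCat.of K) ⟶ G.R) (hgh : h ≫ G.s = g ≫ G.s)
      (p : ↥(Spec (CommRingCat.of K))), g p ∈ L → h p ∈ L →
      gmul G h (g ≫ G.i) (by rw [Category.assoc, G.i_t, hgh]) p ∈ L) :
    ∃ (G' : Grpd.GroupoidScheme S) (φ : Grpd.GroupoidScheme.Hom G' G) (u' : ↥G'.U),
      IsAffine G'.U ∧ Etale φ.fU ∧ φ.fU u' = u ∧ IsIso (φ.fU.residueFieldMap u') ∧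
      IsPullback φ.fR G'.j G.j
        (pullback.map G'.pU G'.pU G.pU G.pU φ.fU φ.fU (𝟙 S)
          ((Category.comp_id _).trans φ.fU_over.symm) ((Category.comp_id _).trans φ.fU_over.symm)) ∧
      ∃ (P : Scheme.{u}) (ιP : P ⟶ G'.R), IsOpenImmersion ιP ∧
        (∃ eP : G'.U ⟶ P, eP ≫ ιP = G'.e) ∧ (∃ iP : P ⟶ P, iP ≫ ιP = ιP ≫ G'.i) ∧
        (∃ cP : pullback (ιP ≫ G'.s) (ιP ≫ G'.t) ⟶ P,
          cP ≫ ιP = pullback.map (ιP ≫ G'.s) (ιP ≫ G'.t) G'.s G'.t ιP ιP (𝟙 G'.U)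
            (Category.comp_id _) (Category.comp_id _) ≫ G'.c) ∧
        IsFinite (ιP ≫ G'.s) ∧ IsFinite (ιP ≫ G'.t) ∧
        ∀ r' : ↥G'.R, G'.s r' = u' → G'.t r' = u' → φ.fR r' ∈ L → ∃ p : ↥P, ιP p = r' := by
  obtain ⟨Q, b, q₀, F, hbe, hbs, hbq, hbk, hF, hfib, hemem, hinj⟩ :=
    exists_moduli G.s G.e G.e_s u L hL hs hqf heL
  let M : Moduli G := ⟨Q, b, F, hbe, hbs, hF, hemem, hinj⟩
  haveI := hbk; haveI := hbe; haveI := hbs
  -- membership over `q₀`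
  have hmem0 : ∀ (K : Type u) [Field K] (x : Spec (CommRingCat.of K) ⟶ Q) (g : Spec (CommRingCat.of K) ⟶ G.R),
      x (IsLocalRing.closedPoint K) = q₀ → (Mem F x g ↔ g ≫ G.s = x ≫ b ∧ g (IsLocalRing.closedPoint K) ∈ L) := by
    intro K _ x g hx
    have key : ∀ h : g ≫ G.s = x ≫ b, ∀ p, pullback.lift g x h p ∈ F ↔ g (IsLocalRing.closedPoint K) ∈ L := by
      intro h p
      rw [Subsingleton.elim p (IsLocalRing.closedPoint K), hfib _ (by rw [← Scheme.Hom.comp_apply, pullback.lift_snd]; exact hx),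
        ← Scheme.Hom.comp_apply, pullback.lift_fst]
    exact ⟨fun ⟨h, hp⟩ => ⟨h, (key h _).1 (hp (IsLocalRing.closedPoint K))⟩,
      fun ⟨h, hp⟩ => ⟨h, fun p => (key h p).2 hp⟩⟩
  have hinvL : ∀ (K : Type u) [Field K] (g : Spec (CommRingCat.of K) ⟶ G.R) (p : ↥(Spec (CommRingCat.of K))),
      g p ∈ L → (g ≫ G.i) p ∈ L := by
    intro K _ g p hg
    have hh : (g ≫ G.s ≫ G.e) ≫ G.s = g ≫ G.s := by simp [G.e_s]
    have he : (g ≫ G.s ≫ G.e) p ∈ L := by
      rw [Scheme.Hom.comp_apply, Scheme.Hom.comp_apply, hs _ hg]; exact heL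
    have := hcl K g _ hh p hg he
    rwa [gmul_eq, comp_congr G (α' := (g ≫ G.i) ≫ G.t ≫ G.e) (β' := g ≫ G.i)
      (by simp only [Category.assoc, reassoc_of% G.i_t]) rfl _ (by simp [G.e_s]), G.e_comp] at this
  have hRel0 : ∀ (K : Type u) [Field K] (x y : Spec (CommRingCat.of K) ⟶ Q) (g : Spec (CommRingCat.of K) ⟶ G.R),
      x (IsLocalRing.closedPoint K) = q₀ → y (IsLocalRing.closedPoint K) = q₀ → Mem F x g →
      y ≫ b = g ≫ G.t → Rel G F x g y := by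
    intro K _ x y g hx hy hg hyb L' _ ψ k
    have hpt : ∀ (z : Spec (CommRingCat.of K) ⟶ Q), z (IsLocalRing.closedPoint K) = q₀ →
        (ψ ≫ z) (IsLocalRing.closedPoint L') = q₀ := fun z hz => (apply_field ψ z _ _).trans hz
    obtain ⟨hgs, hgL⟩ := (hmem0 K x g hx).1 hg
    have hgL' : (ψ ≫ g) (IsLocalRing.closedPoint L') ∈ L := by rw [apply_field ψ g _ (IsLocalRing.closedPoint K)]; exact hgL
    rw [hmem0 L' _ k (hpt y hy)]
    constructor
    · rintro ⟨hk, hkL⟩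
      have hk' : k ≫ G.s = (ψ ≫ g) ≫ G.t := by rw [hk, Category.assoc, Category.assoc, hyb]
      refine ⟨hk', (hmem0 L' _ _ (hpt x hx)).2 ⟨by rw [gmul_s, Category.assoc, hgs, Category.assoc], ?_⟩⟩
      have := hcl L' ((ψ ≫ g) ≫ G.i) k (by rw [hk', Category.assoc, Category.assoc, Category.assoc, G.i_s])
        (IsLocalRing.closedPoint L') (hinvL L' _ _ hgL') hkL
      rwa [gmul_congr G rfl (i_comp_i G (ψ ≫ g))] at this
    · rintro ⟨hk, hm⟩
      obtain ⟨hgks, hgkL⟩ := (hmem0 L' _ _ (hpt x hx)).1 hm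
      refine ⟨by rw [hk, Category.assoc, Category.assoc, hyb], ?_⟩
      have := hcl L' (ψ ≫ g) _ (by rw [gmul_s]) (IsLocalRing.closedPoint L') hgL' hgkL
      rwa [gmul_gmul_inv] at this
  have hlift0 : ∀ (K : Type u) [Field K] (x : Spec (CommRingCat.of K) ⟶ Q) (g : Spec (CommRingCat.of K) ⟶ G.R),
      x (IsLocalRing.closedPoint K) = q₀ → Mem F x g →
      ∃ y : Spec (CommRingCat.of K) ⟶ Q, y ≫ b = g ≫ G.t ∧ ∀ p, y p = q₀ := by
    intro K _ x g hx hg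
    refine exists_lift_of_iso_residueField b q₀ (g ≫ G.t) ?_
    rw [Scheme.Hom.comp_apply, hbq]
    exact ht _ ((hmem0 K x g hx).1 hg).2
  have hq₀ : q₀ ∈ M.V := by
    rintro ⟨f, hf, hfq⟩
    let l := M.F.toScheme.fromSpecResidueField f
    let p := IsLocalRing.closedPoint (M.F.toScheme.residueField f)
    have hlp : l p = f := M.F.toScheme.fromSpecResidueField_apply f p
    have hx : (l ≫ M.q) p = q₀ := by rw [Scheme.Hom.comp_apply, hlp]; exact hfq
    obtain ⟨y, hy, hyq⟩ := hlift0 _ (l ≫ M.q) (l ≫ M.γ) hx (M.mem_of_pt l)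
    let z : _ ⟶ M.T := pullback.lift l y (by rw [← Category.assoc]; exact hy.symm)
    refine hf ⟨z p, (M.mem_A z p).2 ?_, ?_⟩
    · simp only [z, pullback.lift_fst, pullback.lift_snd]
      exact hRel0 _ _ _ _ hx (hyq p) (M.mem_of_pt l) hy
    · rw [← Scheme.Hom.comp_apply, pullback.lift_fst]; exact hlp
  -- the groupoid over `V`
  let H := sgrp (M.isSubgrp M.V)
  obtain ⟨hV1, hV2, hV3⟩ := M.props M.V le_rfl (fun K _ x y g hx hg hy hr => M.rel_mem_V x y g hx hg hy hr)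
  haveI : IsFinite H.s := hV1
  haveI : Flat H.s := hV2
  haveI : LocallyOfFinitePresentation H.s := hV3
  obtain ⟨hT1, hT2, hT3⟩ := props_t H
  haveI := hT1; haveI := hT2; haveI := hT3
  let q₁ : M.V.toScheme := ⟨q₀, hq₀⟩
  obtain ⟨A, hA, hqA, -⟩ := exists_isAffineOpen_mem_and_subset (X := H.U) (x := (q₁ : H.U)) (U := ⊤) trivial
  have horb : orbit H (q₁ : H.U) ⊆ (A : Set H.U) ∩ ((⊤ : H.U.Opens) : Set H.U) := by
    rintro _ ⟨r, hr, rfl⟩
    refine ⟨?_, trivial⟩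
    suffices H.t r = q₁ by rw [this]; exact hqA
    let l := (M.P M.V).toScheme.fromSpecResidueField r
    let p := IsLocalRing.closedPoint ((M.P M.V).toScheme.residueField r)
    have hlp : l p = r := (M.P M.V).toScheme.fromSpecResidueField_apply r p
    obtain ⟨hm, hrel⟩ := (M.mem_P M.V (l ≫ (M.P M.V).ι) p).1 (l p).2
    let x := ((l ≫ (M.P M.V).ι) ≫ rs G (M.φ M.V)) ≫ M.V.ι
    have hx : x p = q₀ := by
      show M.V.ι (H.s (l p)) = q₀
      rw [hlp, hr]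
      rfl
    obtain ⟨y₀, hy₀, hy₀q⟩ := hlift0 _ x _ hx hm
    have := M.inj _ _ y₀ ?_ (hrel.sameSet G (hRel0 _ _ _ _ hx (hy₀q p) hm hy₀))
    · refine M.V.ι.isOpenEmbedding.injective ?_
      show M.V.ι (H.t r) = q₀
      rw [← hlp, ← hy₀q p, ← this]
      rfl
    · rw [hy₀]
      simp only [Category.assoc, rr_t]
  obtain ⟨W₁, hW₁, hqW₁, -, -, hinv⟩ := exists_invariant_affine H q₁ A hA (⊤ : H.U.Opens) horb
  let W : M.Q.Opens := M.V.ι ''ᵁ W₁
  have hWV : W ≤ M.V := by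
    rintro _ ⟨w, -, rfl⟩; exact w.2
  have hWcl : ∀ (K : Type u) [Field K] (x y : Spec (CommRingCat.of K) ⟶ Q) (g : Spec (CommRingCat.of K) ⟶ G.R),
      (∀ p, x p ∈ W) → Mem F x g → y ≫ b = g ≫ G.t → Rel G F x g y → ∀ p, y p ∈ W := by
    intro K _ x y g hx hg hy hrel p
    have hxV : ∀ p, x p ∈ M.V := fun p => hWV (hx p)
    have hyV := M.rel_mem_V x y g hxV hg hy hrel
    let x' := IsOpenImmersion.lift M.V.ι x (by rintro _ ⟨q, rfl⟩; rw [Scheme.Opens.range_ι]; exact hxV q)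
    let y' := IsOpenImmersion.lift M.V.ι y (by rintro _ ⟨q, rfl⟩; rw [Scheme.Opens.range_ι]; exact hyV q)
    have hx' : x' ≫ M.V.ι = x := IsOpenImmersion.lift_fac _ _ _
    have hy' : y' ≫ M.V.ι = y := IsOpenImmersion.lift_fac _ _ _
    have ha : g ≫ G.t = y' ≫ M.φ M.V := hy.symm.trans (by rw [← hy', Category.assoc])
    have hb : g ≫ G.s = x' ≫ M.φ M.V := hg.1.trans (by rw [← hx', Category.assoc])
    have hmem := M.mem_P_rmk M.V g y' x' ha hb (by rw [hx']; exact hg) (by rw [hx', hy']; exact hrel)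
    let r := IsOpenImmersion.lift (M.P M.V).ι (rmk G (M.φ M.V) g y' x' ha hb) (by
      rintro _ ⟨q, rfl⟩; rw [Scheme.Opens.range_ι]; exact hmem q)
    have hrs : r ≫ H.s = x' := by
      show r ≫ (M.P M.V).ι ≫ rs G (M.φ M.V) = x'
      rw [IsOpenImmersion.lift_fac_assoc, rmk_rs]
    have hrt : r ≫ H.t = y' := by
      show r ≫ (M.P M.V).ι ≫ rt G (M.φ M.V) = y'
      rw [IsOpenImmersion.lift_fac_assoc, rmk_rt]
    have h1 : H.s (r p) ∈ W₁ := by
      obtain ⟨w, hw, hwx⟩ := hx p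
      have : H.s (r p) = w := M.V.ι.isOpenEmbedding.injective
        (((congrArg M.V.ι (congr($hrs p))).trans (congr($hx' p))).trans hwx.symm)
      rw [this]; exact hw
    have h2 : H.t (r p) ∈ W₁ := by
      have h3 : r p ∈ H.s ⁻¹ᵁ W₁ := h1
      rw [hinv] at h3
      exact h3
    refine ⟨H.t (r p), h2, ?_⟩
    exact (congrArg M.V.ι (congr($hrt p))).trans (congr($hy' p))
  haveI : IsAffine W.toScheme := hW₁.image_of_isOpenImmersion M.V.ι
  obtain ⟨hW1, hW2, hW3⟩ := M.props W hWV hWcl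
  have hsub := M.isSubgrp W
  haveI : IsFinite (sgrp hsub).s := hW1
  haveI : Flat (sgrp hsub).s := hW2
  haveI : LocallyOfFinitePresentation (sgrp hsub).s := hW3
  let w₀ : W.toScheme := ⟨q₀, ⟨q₁, hqW₁, rfl⟩⟩
  refine ⟨rgrp G (M.φ W), rhom G (M.φ W), w₀, ‹IsAffine W.toScheme›, inferInstanceAs (Etale (W.ι ≫ b)), hbq, ?_,
    isPullback_rhom G (M.φ W), (M.P W).toScheme, (M.P W).ι, inferInstance, ⟨subE hsub, subE_ι hsub⟩,
    ⟨subI hsub, subI_ι hsub⟩, ⟨subC hsub, IsOpenImmersion.lift_fac _ _ _⟩, hW1, (props_t (sgrp hsub)).1, ?_⟩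
  · show IsIso ((W.ι ≫ b).residueFieldMap w₀)
    rw [Scheme.residueFieldMap_comp]
    haveI : IsIso (b.residueFieldMap (W.ι w₀)) := hbk
    infer_instance
  · intro r' hsr htr hrL
    let l := (RR G (M.φ W)).fromSpecResidueField r'
    let p := IsLocalRing.closedPoint ((RR G (M.φ W)).residueField r')
    have hlp : l p = r' := (RR G (M.φ W)).fromSpecResidueField_apply r' p
    have hx : ((l ≫ rs G (M.φ W)) ≫ W.ι) p = q₀ := by
      show W.ι (rs G (M.φ W) (l p)) = q₀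
      rw [hlp]; exact congrArg W.ι hsr
    have hy : ((l ≫ rt G (M.φ W)) ≫ W.ι) p = q₀ := by
      show W.ι (rt G (M.φ W) (l p)) = q₀
      rw [hlp]; exact congrArg W.ι htr
    have hm : Mem F ((l ≫ rs G (M.φ W)) ≫ W.ι) (l ≫ rr G (M.φ W)) :=
      (hmem0 _ _ _ hx).2 ⟨by simp only [Category.assoc, rr_s]; rfl, by
        show rr G (M.φ W) (l p) ∈ L
        rw [hlp]; exact hrL⟩
    have hP : l p ∈ M.P W := (M.mem_P W l p).2 ⟨hm, hRel0 _ _ _ _ hx hy hm (by simp only [Category.assoc, rr_t]; rfl)⟩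
    exact ⟨⟨l p, hP⟩, hlp⟩

end Groth.Agent.GrpdSplit
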