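import Groth.Agent.GrpdSplit.Pieces
import Mathlib.AlgebraicGeometry.Morphisms.UniversallyInjective

/-!
# Field points over a point with trivial residue extension; isomorphisms detected on field points
-/

universe u

open CategoryTheory CategoryTheory.Limits AlgebraicGeometry

set_option backward.isDefEq.respectTransparency false

namespace Groth.Agent.GrpdSplit

theorem exists_lift_of_iso_residueField {Q U : Scheme.{u}} (b : Q ⟶ U) (q₀ : Q)
    [IsIso (b.residueFieldMap q₀)] {K : Type u} [Field K] (x : Spec (CommRingCat.of K) ⟶ U)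
    (hx : x (IsLocalRing.closedPoint K) = b q₀) :
    ∃ y : Spec (CommRingCat.of K) ⟶ Q, y ≫ b = x ∧ ∀ p, y p = q₀ := by
  refine ⟨Spec.map (inv (b.residueFieldMap q₀) ≫ (U.residueFieldCongr hx.symm).hom ≫
    U.descResidueField (Scheme.stalkClosedPointTo x)) ≫ Q.fromSpecResidueField q₀, ?_, fun p => ?_⟩
  · rw [Category.assoc, Spec.map_comp, Spec.map_comp, Category.assoc, Category.assoc,
      ← Scheme.Hom.SpecMap_residueFieldMap_fromSpecResidueField, ← Spec.map_comp_assoc (b.residueFieldMap q₀),
      IsIso.hom_inv_id, Spec.map_id, Category.id_comp, Scheme.residueFieldCongr_fromSpecResidueField,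
      Scheme.descResidueField_stalkClosedPointTo_fromSpecResidueField]
  · rw [Scheme.Hom.comp_apply]
    exact Q.fromSpecResidueField_apply q₀ _

theorem universallyInjective_of_field_points {X Y : Scheme.{u}} (f : X ⟶ Y)
    (h : ∀ (K : Type u) [Field K] (a b : Spec (CommRingCat.of K) ⟶ X), a ≫ f = b ≫ f → a = b) :
    UniversallyInjective f := by
  rw [UniversallyInjective.iff_diagonal]
  refine ⟨fun z => ?_⟩
  let l := (pullback f f).fromSpecResidueField z
  have e := h _ (l ≫ pullback.fst f f) (l ≫ pullback.snd f f) (by
    rw [Category.assoc, Category.assoc, pullback.condition])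
  have hl : (l ≫ pullback.fst f f) ≫ pullback.diagonal f = l := by
    apply pullback.hom_ext
    · simp
    · simp [← e]
  refine ⟨(l ≫ pullback.fst f f) (IsLocalRing.closedPoint _), ?_⟩
  rw [← Scheme.Hom.comp_apply, hl]
  exact (pullback f f).fromSpecResidueField_apply z _

end Groth.Agent.GrpdSplit
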