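import Groth.Agent.GrpdSplit.Groupoid

/-!
# Finiteness of the subgroupoid of a space of pieces
-/

universe u

open CategoryTheory CategoryTheory.Limits AlgebraicGeometry

set_option backward.isDefEq.respectTransparency false

namespace Groth.Agent.GrpdSplit

open Groth.Agent.GrpdLib

variable {S : Scheme.{u}} {G : Grpd.GroupoidScheme S} (M : Moduli G) (W : M.Q.Opens)

/-- arrows of the restriction as triples -/
noncomputable def Moduli.κ' : RR G (M.φ W) ⟶ pullback G.s (M.φ W) :=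
  pullback.lift (rr G (M.φ W)) (rs G (M.φ W)) (rr_s G (M.φ W))

lemma Moduli.isPullback_κ' :
    IsPullback (M.κ' W) (rt G (M.φ W)) (pullback.fst G.s (M.φ W) ≫ G.t) (M.φ W) := by
  have hw : M.κ' W ≫ pullback.fst G.s (M.φ W) ≫ G.t = rt G (M.φ W) ≫ M.φ W := by
    rw [Moduli.κ', pullback.lift_fst_assoc, rr_t]
  refine ⟨⟨hw⟩, ⟨PullbackCone.IsLimit.mk hw
    (fun c => rmk G (M.φ W) (c.fst ≫ pullback.fst _ _) c.snd (c.fst ≫ pullback.snd _ _)
      (by rw [Category.assoc]; exact c.condition)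
      (by rw [Category.assoc, Category.assoc, pullback.condition])) ?_ ?_ ?_⟩⟩
  · intro c
    apply pullback.hom_ext <;> simp [Moduli.κ']
  · intro c
    simp
  · intro c m h₁ h₂
    apply rext G (M.φ W)
    · rw [rmk_rr, ← h₁, Category.assoc, Moduli.κ', pullback.lift_fst]
    · rw [rmk_rt, h₂]
    · rw [rmk_rs, ← h₁, Category.assoc, Moduli.κ', pullback.lift_snd]

variable [Flat G.s] [LocallyOfFinitePresentation G.s]

/-- the finite-piece over the objects -/
noncomputable def Moduli.FW : (pullback G.s (M.φ W)).Opens := pb M.F W.ι rfl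

theorem Moduli.props (hWV : W ≤ M.V)
    (hcl : ∀ (K : Type u) [Field K] (x y : Spec (CommRingCat.of K) ⟶ M.Q) (g : Spec (CommRingCat.of K) ⟶ G.R),
      (∀ p, x p ∈ W) → Mem M.F x g → y ≫ M.b = g ≫ G.t → Rel G M.F x g y → ∀ p, y p ∈ W) :
    IsFinite ((M.P W).ι ≫ rs G (M.φ W)) ∧ Flat ((M.P W).ι ≫ rs G (M.φ W)) ∧
      LocallyOfFinitePresentation ((M.P W).ι ≫ rs G (M.φ W)) := by
  haveI := M.etale; haveI := M.sep
  haveI hκe : Etale (M.κ' W) := MorphismProperty.of_isPullback (M.isPullback_κ' W).flip inferInstance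
  haveI hκs : IsSeparated (M.κ' W) := MorphismProperty.of_isPullback (M.isPullback_κ' W).flip inferInstance
  have hpw : ∀ (K : Type u) [Field K] (r : Spec (CommRingCat.of K) ⟶ (M.P W).toScheme),
      Mem M.F (((r ≫ (M.P W).ι) ≫ rs G (M.φ W)) ≫ W.ι) ((r ≫ (M.P W).ι) ≫ rr G (M.φ W)) ∧
        Rel G M.F (((r ≫ (M.P W).ι) ≫ rs G (M.φ W)) ≫ W.ι) ((r ≫ (M.P W).ι) ≫ rr G (M.φ W))
          (((r ≫ (M.P W).ι) ≫ rt G (M.φ W)) ≫ W.ι) := fun K _ r => by
    refine (M.mem_P W _ (IsLocalRing.closedPoint K)).1 ?_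
    exact (r _).2
  have hrange : Set.range ((M.P W).ι ≫ M.κ' W) ⊆ Set.range (M.FW W).ι := by
    rintro _ ⟨z, rfl⟩
    let r := (M.P W).toScheme.fromSpecResidueField z
    obtain ⟨hm, -⟩ := hpw _ r
    obtain ⟨h, hp⟩ := (mem_pb M.F W.ι (a' := M.φ W) rfl _ _).2 hm
    have e : pullback.lift _ _ h = r ≫ (M.P W).ι ≫ M.κ' W := by
      apply pullback.hom_ext <;> simp [Moduli.κ']
    have := hp (IsLocalRing.closedPoint _)
    rw [e] at this
    rw [Scheme.Opens.range_ι]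
    exact (congrArg (fun v => ((M.P W).ι ≫ M.κ' W) v)
      ((M.P W).toScheme.fromSpecResidueField_apply z (IsLocalRing.closedPoint _))) ▸ this
  let δ : (M.P W).toScheme ⟶ (M.FW W).toScheme := IsOpenImmersion.lift (M.FW W).ι _ hrange
  have hδ : δ ≫ (M.FW W).ι = (M.P W).ι ≫ M.κ' W := IsOpenImmersion.lift_fac _ _ _
  haveI : Etale δ := by
    haveI : Etale (δ ≫ (M.FW W).ι) := by rw [hδ]; infer_instance
    exact Etale.of_comp δ (M.FW W).ι
  haveI : IsSeparated δ := by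
    haveI : IsSeparated (δ ≫ (M.FW W).ι) := by rw [hδ]; infer_instance
    exact IsSeparated.of_comp δ (M.FW W).ι
  have hδs : δ ≫ (M.FW W).ι ≫ pullback.snd G.s (M.φ W) = (M.P W).ι ≫ rs G (M.φ W) := by
    rw [reassoc_of% hδ, Moduli.κ', pullback.lift_snd]
  haveI : UniversallyInjective δ := universallyInjective_of_field_points δ fun K _ r₁ r₂ h => by
    have h' : (r₁ ≫ (M.P W).ι) ≫ M.κ' W = (r₂ ≫ (M.P W).ι) ≫ M.κ' W := by
      rw [Category.assoc, Category.assoc, ← hδ, reassoc_of% h]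
    have hr : (r₁ ≫ (M.P W).ι) ≫ rr G (M.φ W) = (r₂ ≫ (M.P W).ι) ≫ rr G (M.φ W) := by
      simpa [Moduli.κ'] using congrArg (· ≫ pullback.fst _ _) h'
    have hs : (r₁ ≫ (M.P W).ι) ≫ rs G (M.φ W) = (r₂ ≫ (M.P W).ι) ≫ rs G (M.φ W) := by
      simpa [Moduli.κ'] using congrArg (· ≫ pullback.snd _ _) h'
    obtain ⟨-, hr₁⟩ := hpw K r₁
    obtain ⟨-, hr₂⟩ := hpw K r₂
    rw [← hs, ← hr] at hr₂
    rw [← cancel_mono (M.P W).ι]
    refine rext G (M.φ W) hr ?_ hs
    rw [← cancel_mono W.ι]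
    refine M.inj K _ _ ?_ (hr₁.sameSet G hr₂)
    rw [Category.assoc _ W.ι M.b, Category.assoc _ W.ι M.b, Category.assoc _ (rt G (M.φ W)),
      Category.assoc _ (rt G (M.φ W)), ← rr_t]
    simpa only [Category.assoc] using congrArg (· ≫ G.t) hr
  haveI : IsOpenImmersion δ := EtaleSections.isOpenImmersion_of_etale_universallyInjective δ
  haveI : Surjective δ := ⟨fun z => by
    let f := (M.FW W).toScheme.fromSpecResidueField z
    let x := f ≫ (M.FW W).ι ≫ pullback.snd G.s (M.φ W)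
    let g := f ≫ (M.FW W).ι ≫ pullback.fst G.s (M.φ W)
    have hm : Mem M.F (x ≫ W.ι) g := by
      refine (mem_pb M.F W.ι (a' := M.φ W) rfl x g).1 ?_
      simp only [x, g, ← Category.assoc]
      exact (mem_of_point _ _).2 fun p => by rw [Scheme.Hom.comp_apply]; exact (f p).2
    have hxW : ∀ p, (x ≫ W.ι) p ∈ W := fun p => by rw [Scheme.Hom.comp_apply]; exact (x p).2
    obtain ⟨L, _, ψ, y, hy, hrel⟩ := M.exists_rel (x ≫ W.ι) g (fun p => hWV (hxW p)) hm
    have hmψ : Mem M.F (ψ ≫ x ≫ W.ι) (ψ ≫ g) := hm.comp_field G ψ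
    have hyW := hcl L _ y _ (fun p => by rw [Scheme.Hom.comp_apply]; exact hxW _) hmψ hy hrel
    let y' := IsOpenImmersion.lift W.ι y (by rintro _ ⟨p, rfl⟩; rw [Scheme.Opens.range_ι]; exact hyW p)
    have hy' : y' ≫ W.ι = y := IsOpenImmersion.lift_fac _ _ _
    have ha : (ψ ≫ g) ≫ G.t = y' ≫ M.φ W := hy.symm.trans (by rw [← hy', Category.assoc])
    have hb : (ψ ≫ g) ≫ G.s = (ψ ≫ x) ≫ M.φ W := by
      rw [hmψ.1]; simp only [Moduli.φ, Category.assoc]
    have hmem := M.mem_P_rmk W (ψ ≫ g) y' (ψ ≫ x) ha hb (by rw [Category.assoc]; exact hmψ)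
      (by rw [hy', Category.assoc]; exact hrel)
    let r := IsOpenImmersion.lift (M.P W).ι (rmk G (M.φ W) (ψ ≫ g) y' (ψ ≫ x) ha hb) (by
      rintro _ ⟨p, rfl⟩; rw [Scheme.Opens.range_ι]; exact hmem p)
    have hr : r ≫ δ = ψ ≫ f := by
      rw [← cancel_mono (M.FW W).ι, Category.assoc, hδ, IsOpenImmersion.lift_fac_assoc]
      apply pullback.hom_ext
      · simp [Moduli.κ', g]
      · simp [Moduli.κ', x]
    refine ⟨r (IsLocalRing.closedPoint L), ?_⟩
    rw [← Scheme.Hom.comp_apply, hr, Scheme.Hom.comp_apply]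
    exact (M.FW W).toScheme.fromSpecResidueField_apply z _⟩
  haveI : IsIso δ := (isIso_iff_isOpenImmersion_and_surjective δ).2 ⟨inferInstance, inferInstance⟩
  haveI : IsFinite ((M.FW W).ι ≫ pullback.snd G.s (M.φ W)) := (isPiece_pb M.F W.ι rfl M.piece).finite
  rw [← hδs]
  exact ⟨inferInstance, inferInstance, inferInstance⟩

end Groth.Agent.GrpdSplit
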