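import Groth.Agent.GrpdSplit.Local

/-!
# The finite part is the full restriction when `j` is universally closed
-/

universe u

open CategoryTheory CategoryTheory.Limits AlgebraicGeometry

set_option backward.isDefEq.respectTransparency false

namespace Groth.Agent.GrpdSplit

variable {S : Scheme.{u}} (G : Grpd.GroupoidScheme S)

/-- arrows with both ends in `U'` -/
noncomputable def fullR {S' : Scheme.{u}} (g : S' ⟶ S) (U' : (pullback G.pU g).Opens) : (pullback G.pR g).Opens :=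
  (sBC G g ⁻¹ᵁ U') ⊓ (tBC G g ⁻¹ᵁ U')

theorem isClosed_image_fullR [UniversallyClosed G.j] {S' : Scheme.{u}} (g : S' ⟶ S) (U' : (pullback G.pU g).Opens)
    [IsFinite (U'.ι ≫ pullback.snd G.pU g)] (D : Set ↥(pullback G.pR g)) (hD : IsClosed D)
    (hDs : D ⊆ (fullR G g U' : Set ↥(pullback G.pR g))) : IsClosed (⇑(pullback.snd G.pR g) '' D) := by
  let q := U'.ι ≫ pullback.snd G.pU g
  have hq : (U'.ι ≫ pullback.fst G.pU g) ≫ G.pU = q ≫ g := by
    simp only [q, Category.assoc, pullback.condition]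
  let Q := pullback q q
  let Pi2 : Q ⟶ pullback G.pU G.pU := pullback.map q q G.pU G.pU (U'.ι ≫ pullback.fst G.pU g)
    (U'.ι ≫ pullback.fst G.pU g) g hq.symm hq.symm
  let Y := pullback G.j Pi2
  let σ : Y ⟶ S' := pullback.snd G.j Pi2 ≫ pullback.fst q q ≫ q
  have hw : pullback.fst G.j Pi2 ≫ G.pR = σ ≫ g := by
    have h1 : G.j ≫ pullback.fst G.pU G.pU ≫ G.pU = G.pR := by
      rw [Grpd.GroupoidScheme.j, pullback.lift_fst_assoc, G.t_over]
    have h2 : Pi2 ≫ pullback.fst G.pU G.pU ≫ G.pU = pullback.fst q q ≫ q ≫ g := by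
      rw [show Pi2 ≫ pullback.fst G.pU G.pU ≫ G.pU = pullback.fst q q ≫ (U'.ι ≫ pullback.fst G.pU g) ≫ G.pU from
        (Category.assoc _ _ _).symm.trans ((congrArg (· ≫ G.pU) (pullback.lift_fst _ _ _)).trans (Category.assoc _ _ _)),
        hq]
    rw [← h1, pullback.condition_assoc, h2]
    simp only [σ, Category.assoc]
  let α : Y ⟶ pullback G.pR g := pullback.lift (pullback.fst G.j Pi2) σ hw
  have hσc : IsClosedMap σ := σ.isClosedMap
  have himg : ⇑(pullback.snd G.pR g) '' D = ⇑σ '' (⇑α ⁻¹' D) := by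
    have hασ : α ≫ pullback.snd G.pR g = σ := pullback.lift_snd _ _ _
    ext s'
    constructor
    · rintro ⟨r, hr, rfl⟩
      let l := (pullback G.pR g).fromSpecResidueField r
      have hl : ∀ p, l p = r := fun p => (pullback G.pR g).fromSpecResidueField_apply r p
      obtain ⟨hs, ht⟩ := hDs hr
      let a : _ ⟶ U'.toScheme := IsOpenImmersion.lift U'.ι (l ≫ tBC G g) (by
        rintro _ ⟨p, rfl⟩; rw [Scheme.Opens.range_ι]; show tBC G g (l p) ∈ U'; rw [hl]; exact ht)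
      let b : _ ⟶ U'.toScheme := IsOpenImmersion.lift U'.ι (l ≫ sBC G g) (by
        rintro _ ⟨p, rfl⟩; rw [Scheme.Opens.range_ι]; show sBC G g (l p) ∈ U'; rw [hl]; exact hs)
      have ha : a ≫ U'.ι = l ≫ tBC G g := IsOpenImmersion.lift_fac _ _ _
      have hb : b ≫ U'.ι = l ≫ sBC G g := IsOpenImmersion.lift_fac _ _ _
      have hab : a ≫ q = b ≫ q := by
        simp only [q, reassoc_of% ha, reassoc_of% hb, pullback.map, pullback.lift_snd, Category.comp_id]
      let y : _ ⟶ Y := pullback.lift (l ≫ pullback.fst G.pR g) (pullback.lift a b hab) (by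
        apply pullback.hom_ext
        · simp [Grpd.GroupoidScheme.j, Pi2, reassoc_of% ha, pullback.map]
        · simp [Grpd.GroupoidScheme.j, Pi2, reassoc_of% hb, pullback.map])
      have hy : y ≫ α = l := by
        apply pullback.hom_ext
        · simp [y, α]
        · simp [y, α, σ, q, reassoc_of% ha, pullback.map]
      refine ⟨y (IsLocalRing.closedPoint _), ?_, ?_⟩
      · show α (y _) ∈ D
        rw [← Scheme.Hom.comp_apply, hy, hl]; exact hr
      · rw [← hασ, ← Scheme.Hom.comp_apply, reassoc_of% hy, Scheme.Hom.comp_apply, hl]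
    · rintro ⟨y, hy, rfl⟩
      exact ⟨α y, hy, congr($hασ y)⟩
  rw [himg]
  exact hσc _ (hD.preimage α.continuous)

theorem exists_full {p : S} {u : G.U} (hu : G.pU u = p) [LocallyOfFiniteType G.pU] [IsSeparated G.pU]
    [IsSeparated G.pR] [Flat G.s] [LocallyOfFinitePresentation G.s] [Flat G.t] [LocallyOfFinitePresentation G.t]
    [UniversallyClosed G.j]
    (hqf : ∃ V : G.U.Opens, u ∈ V ∧ ∀ x ∈ V, G.pU x = p → x = u) (hfin : (⇑G.s ⁻¹' {u}).Finite) :
    ∃ (S' : Scheme.{u}) (g : S' ⟶ S) (p' : S') (U' : (pullback G.pU g).Opens) (R₀ : (pullback G.pR g).Opens),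
      Etale g ∧ g p' = p ∧ IsIso (g.residueFieldMap p') ∧ IsPiece G.pU U' ∧ IsPiece G.pR R₀ ∧
      (∀ z, pullback.snd G.pU g z = p' → (z ∈ U' ↔ pullback.fst G.pU g z ∈ orbSet G u)) ∧
      (∀ z, pullback.snd G.pR g z = p' → (z ∈ R₀ ↔ pullback.fst G.pR g z ∈ arrSet G u)) ∧
      fullR G g U' ≤ R₀ := by
  obtain ⟨S₁, g, p', U', R₀, hg, hgp, hgi, hU', hR₀, hUf, hRf⟩ := exists_core G p u hu hqf hfin
  haveI := hgi; haveI := hU'.finite
  let D : Set ↥(pullback G.pR g) := (fullR G g U' : Set ↥(pullback G.pR g)) \ R₀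
  have hD : IsClosed D := ((hU'.closed.preimage (sBC G g).continuous).inter
    (hU'.closed.preimage (tBC G g).continuous)).sdiff R₀.2
  have hDcl := isClosed_image_fullR G g U' D hD Set.sdiff_subset
  let N : S₁.Opens := ⟨(⇑(pullback.snd G.pR g) '' D)ᶜ, hDcl.isOpen_compl⟩
  have hpN : p' ∈ N := by
    rintro ⟨r, ⟨⟨hrs, -⟩, hrR⟩, hrp⟩
    refine hrR ((hRf r hrp).2 ?_)
    have es₁ : sBC G g ≫ pullback.fst G.pU g = pullback.fst G.pR g ≫ G.s := pullback.lift_fst _ _ _
    have es₂ : sBC G g ≫ pullback.snd G.pU g = pullback.snd G.pR g :=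
      (pullback.lift_snd _ _ _).trans (Category.comp_id _)
    have := (hUf (sBC G g r) ((congr($es₂ r)).trans hrp)).1 hrs
    show G.s (pullback.fst G.pR g r) ∈ orbSet G u
    exact (congr($es₁ r) : _) ▸ this
  let p'' : N.toScheme := ⟨p', hpN⟩
  haveI : IsIso ((N.ι ≫ g).residueFieldMap p'') := by
    rw [Scheme.residueFieldMap_comp]
    haveI : IsIso (g.residueFieldMap (N.ι p'')) := hgi
    infer_instance
  refine ⟨N.toScheme, N.ι ≫ g, p'', pb U' N.ι rfl, pb R₀ N.ι rfl, inferInstance, hgp, inferInstance,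
    isPiece_pb _ _ _ hU', isPiece_pb _ _ _ hR₀, fun z hz => ?_, fun z hz => ?_, fun r hr => ?_⟩
  · refine (hUf (pbMap (s := G.pU) N.ι rfl z) ?_).trans ?_
    · rw [← Scheme.Hom.comp_apply, pbMap, pullback.lift_snd, Scheme.Hom.comp_apply, hz]; rfl
    · rw [← Scheme.Hom.comp_apply, show pbMap (s := G.pU) N.ι rfl ≫ pullback.fst G.pU g = pullback.fst G.pU (N.ι ≫ g) from
        pullback.lift_fst _ _ _]
  · refine (hRf (pbMap (s := G.pR) N.ι rfl z) ?_).trans ?_
    · rw [← Scheme.Hom.comp_apply, pbMap, pullback.lift_snd, Scheme.Hom.comp_apply, hz]; rfl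
    · rw [← Scheme.Hom.comp_apply, show pbMap (s := G.pR) N.ι rfl ≫ pullback.fst G.pR g = pullback.fst G.pR (N.ι ≫ g) from
        pullback.lift_fst _ _ _]
  · have cs : sBC G (N.ι ≫ g) ≫ pbMap (s := G.pU) N.ι rfl = pbMap (s := G.pR) N.ι rfl ≫ sBC G g := by
      apply pullback.hom_ext <;> simp [pbMap, pullback.map]
    have ct : tBC G (N.ι ≫ g) ≫ pbMap (s := G.pU) N.ι rfl = pbMap (s := G.pR) N.ι rfl ≫ tBC G g := by
      apply pullback.hom_ext <;> simp [pbMap, pullback.map]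
    show pbMap (s := G.pR) N.ι rfl r ∈ R₀
    by_contra hcon
    have h1 : sBC G g (pbMap (s := G.pR) N.ι rfl r) ∈ U' := (congr($cs r) : _) ▸ hr.1
    have h2 : tBC G g (pbMap (s := G.pR) N.ι rfl r) ∈ U' := (congr($ct r) : _) ▸ hr.2
    have e : pbMap (s := G.pR) N.ι rfl ≫ pullback.snd G.pR g = pullback.snd G.pR (N.ι ≫ g) ≫ N.ι :=
      pullback.lift_snd _ _ _
    exact (pullback.snd G.pR (N.ι ≫ g) r).2 ⟨_, ⟨⟨h1, h2⟩, hcon⟩, congr($e r)⟩

end Groth.Agent.GrpdSplit
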