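import Groth.Agent.GrpdSplit.Translate
import Groth.Agent.GrpdSplit.Restrict
import Groth.Agent.GrpdSplit.FieldPts
import Groth.Agent.EtaleSections.Basic
import Groth.Agent.Grpd.Inverse

/-!
# The finite subgroupoid attached to a space of pieces
-/

universe u

open CategoryTheory CategoryTheory.Limits AlgebraicGeometry

set_option backward.isDefEq.respectTransparency false

namespace Groth.Agent.GrpdSplit

open Groth.Agent.GrpdLib

variable {S : Scheme.{u}} (G : Grpd.GroupoidScheme S)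

/-- A space of pieces with injective field points -/
structure Moduli where
  /-- the space -/
  Q : Scheme.{u}
  /-- its map to the objects -/
  b : Q ⟶ G.U
  /-- the universal piece -/
  F : (pullback G.s b).Opens
  etale : Etale b
  sep : IsSeparated b
  piece : IsPiece G.s F
  e_mem : ∀ (K : Type u) [Field K] (x : Spec (CommRingCat.of K) ⟶ Q), Mem F x ((x ≫ b) ≫ G.e)
  inj : ∀ (K : Type u) [Field K] (x y : Spec (CommRingCat.of K) ⟶ Q), x ≫ b = y ≫ b → SameSet F F x y → x = y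

variable {G} (M : Moduli G)

/-- the structure map of the piece -/
noncomputable def Moduli.q : M.F.toScheme ⟶ M.Q := M.F.ι ≫ pullback.snd G.s M.b

/-- the arrows of the piece -/
noncomputable def Moduli.γ : M.F.toScheme ⟶ G.R := M.F.ι ≫ pullback.fst G.s M.b

lemma Moduli.hγ : M.γ ≫ G.s = M.q ≫ M.b := by
  simp only [Moduli.γ, Moduli.q, Category.assoc, pullback.condition]

/-- pairs of an element of the piece and a candidate translate -/
noncomputable abbrev Moduli.T : Scheme.{u} := pullback (M.γ ≫ G.t) M.b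

/-- where the candidate is the translate -/
noncomputable def Moduli.A : Set M.T :=
  agreeSet (pb (trW G M.q M.γ M.hγ M.F) (pullback.fst _ _) (a' := pullback.fst (M.γ ≫ G.t) M.b ≫ (M.γ ≫ G.t)) rfl)
    (pb M.F (pullback.snd _ _) (a' := pullback.fst (M.γ ≫ G.t) M.b ≫ (M.γ ≫ G.t)) pullback.condition.symm)

lemma Moduli.isClopen_A [Flat G.s] [LocallyOfFinitePresentation G.s] : IsClopen M.A :=
  isClopen_agreeSet _ _ (isPiece_pb _ _ _ (isPiece_trW G _ _ _ _ M.piece)) (isPiece_pb _ _ _ M.piece)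

theorem Moduli.mem_A {K : Type u} [Field K] (l : Spec (CommRingCat.of K) ⟶ M.T)
    (p : ↥(Spec (CommRingCat.of K))) :
    l p ∈ M.A ↔ Rel G M.F ((l ≫ pullback.fst _ _) ≫ M.q) ((l ≫ pullback.fst _ _) ≫ M.γ) (l ≫ pullback.snd _ _) := by
  refine (mem_agreeSet_iff _ _ l p).trans ?_
  refine forall_congr' fun L => forall_congr' fun _ => forall_congr' fun ψ => forall_congr' fun k => ?_
  rw [mem_pb, mem_pb, mem_trW]
  simp only [Category.assoc]
  exact Iff.comm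

/-- the elements of the piece having a translate -/
noncomputable def Moduli.good : Set M.F.toScheme := pullback.fst (M.γ ≫ G.t) M.b '' M.A

/-- the points all of whose elements have translates -/
noncomputable def Moduli.V [Flat G.s] [LocallyOfFinitePresentation G.s] : M.Q.Opens :=
  ⟨(M.q '' M.goodᶜ)ᶜ, by
    haveI : IsFinite M.q := M.piece.finite
    haveI := M.etale
    exact (M.q.isClosedMap _ ((pullback.fst (M.γ ≫ G.t) M.b).isOpenMap _
      M.isClopen_A.isOpen).isClosed_compl).isOpen_compl⟩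

/-- a field point of the piece -/
theorem Moduli.exists_pt {K : Type u} [Field K] (x : Spec (CommRingCat.of K) ⟶ M.Q)
    (g : Spec (CommRingCat.of K) ⟶ G.R) (hg : Mem M.F x g) :
    ∃ f : Spec (CommRingCat.of K) ⟶ M.F.toScheme, f ≫ M.q = x ∧ f ≫ M.γ = g := by
  obtain ⟨h, hp⟩ := hg
  refine ⟨IsOpenImmersion.lift M.F.ι (pullback.lift g x h) (by
    rintro _ ⟨p, rfl⟩; rw [Scheme.Opens.range_ι]; exact hp p), ?_, ?_⟩
  · rw [Moduli.q, IsOpenImmersion.lift_fac_assoc, pullback.lift_snd]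
  · rw [Moduli.γ, IsOpenImmersion.lift_fac_assoc, pullback.lift_fst]

theorem Moduli.mem_of_pt {K : Type u} [Field K] (f : Spec (CommRingCat.of K) ⟶ M.F.toScheme) :
    Mem M.F (f ≫ M.q) (f ≫ M.γ) := by
  simp only [Moduli.q, Moduli.γ, ← Category.assoc]
  rw [mem_of_point]
  intro p
  rw [Scheme.Hom.comp_apply]
  exact (f p).2

theorem Moduli.mem_s {K : Type u} [Field K] {x : Spec (CommRingCat.of K) ⟶ M.Q}
    {g : Spec (CommRingCat.of K) ⟶ G.R} (hg : Mem M.F x g) : g ≫ G.s = x ≫ M.b := hg.1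

section V

variable [Flat G.s] [LocallyOfFinitePresentation G.s]

theorem Moduli.exists_rel {K : Type u} [Field K] (x : Spec (CommRingCat.of K) ⟶ M.Q)
    (g : Spec (CommRingCat.of K) ⟶ G.R) (hx : ∀ p, x p ∈ M.V) (hg : Mem M.F x g) :
    ∃ (L : Type u) (_ : Field L) (ψ : Spec (CommRingCat.of L) ⟶ Spec (CommRingCat.of K))
      (y : Spec (CommRingCat.of L) ⟶ M.Q), y ≫ M.b = (ψ ≫ g) ≫ G.t ∧ Rel G M.F (ψ ≫ x) (ψ ≫ g) y := by
  obtain ⟨f, hf₁, hf₂⟩ := M.exists_pt x g hg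
  have hgood : f (IsLocalRing.closedPoint K) ∈ M.good := by
    by_contra hcon
    refine hx (IsLocalRing.closedPoint K) ⟨_, hcon, ?_⟩
    rw [← Scheme.Hom.comp_apply, hf₁]
  obtain ⟨z, hz, hzf⟩ := hgood
  obtain ⟨L, _, ψ, l, hl, hlz⟩ := exists_lift_field (pullback.fst (M.γ ≫ G.t) M.b) f z hzf
  have h1 : (l ≫ pullback.fst (M.γ ≫ G.t) M.b) ≫ M.γ = ψ ≫ g := by rw [hl, Category.assoc, hf₂]
  refine ⟨L, inferInstance, ψ, l ≫ pullback.snd _ _, ?_, ?_⟩
  · rw [Category.assoc, ← pullback.condition, ← h1]; simp only [Category.assoc]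
  · have := (M.mem_A l (IsLocalRing.closedPoint L)).1 (by rw [hlz]; exact hz)
    rwa [h1, hl, Category.assoc ψ, hf₁] at this

theorem Moduli.rel_mem_V {K : Type u} [Field K] (x y : Spec (CommRingCat.of K) ⟶ M.Q)
    (g : Spec (CommRingCat.of K) ⟶ G.R) (hx : ∀ p, x p ∈ M.V) (hg : Mem M.F x g)
    (hy : y ≫ M.b = g ≫ G.t) (hrel : Rel G M.F x g y) : ∀ p, y p ∈ M.V := by
  intro p
  obtain rfl : p = IsLocalRing.closedPoint K := Subsingleton.elim _ _
  rintro ⟨f, hf, hfy⟩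
  obtain ⟨L, _, ψ, f', hf', hff⟩ := exists_lift_field M.q y f hfy
  have hmy : Mem M.F (ψ ≫ y) (f' ≫ M.γ) := hf' ▸ M.mem_of_pt f'
  obtain ⟨hc, hmx⟩ := (hrel L ψ _).1 hmy
  obtain ⟨L', _, φ, z, hz, hrz⟩ := M.exists_rel (ψ ≫ x) _
    (fun p => by rw [Scheme.Hom.comp_apply]; exact hx _) hmx
  have hs : (φ ≫ ψ ≫ g) ≫ G.s = (φ ≫ ψ ≫ x) ≫ M.b := by
    simp only [Category.assoc, hg.1]
  have h1 := ((hrel.comp_field G (φ ≫ ψ))).symm G (by simpa only [Category.assoc] using hs)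
  simp only [Category.assoc] at h1
  have h2 := h1.trans G hrz (by
    rw [comp_gmul, gmul_s]; simp only [Category.assoc, G.i_t])
  have key : ∀ hh, gmul G (φ ≫ gmul G (f' ≫ M.γ) (ψ ≫ g) hc) (φ ≫ ψ ≫ g ≫ G.i) hh = φ ≫ f' ≫ M.γ := by
    intro hh
    rw [gmul_congr G (comp_gmul G φ _ _ _) (by simp only [Category.assoc] : φ ≫ ψ ≫ g ≫ G.i = (φ ≫ ψ ≫ g) ≫ G.i),
      gmul_gmul_inv]
  rw [key] at h2
  have hzb : z ≫ M.b = (φ ≫ f' ≫ M.γ) ≫ G.t := by
    rw [hz, comp_gmul, gmul_t]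
  let l : Spec (CommRingCat.of L') ⟶ M.T := pullback.lift (φ ≫ f') z (by
    rw [hzb]; simp only [Category.assoc])
  refine hf ⟨l (IsLocalRing.closedPoint L'), (M.mem_A l _).2 ?_, ?_⟩
  · simp only [l, pullback.lift_fst, pullback.lift_snd, Category.assoc, hf']
    exact h2
  · rw [← Scheme.Hom.comp_apply, pullback.lift_fst, Scheme.Hom.comp_apply]
    exact hff _

end V

section sub

variable (W : M.Q.Opens)

/-- the objects -/
noncomputable abbrev Moduli.φ : W.toScheme ⟶ G.U := W.ι ≫ M.b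

/-- the element of the universal piece of an arrow of the restriction -/
noncomputable def Moduli.κ : RR G (M.φ W) ⟶ pullback G.s M.b :=
  pullback.lift (rr G (M.φ W)) (rs G (M.φ W) ≫ W.ι) (by rw [rr_s, Category.assoc])

/-- the arrows lying in the piece -/
noncomputable def Moduli.P₁ : (RR G (M.φ W)).Opens := M.κ W ⁻¹ᵁ M.F

/-- their map to the pairs -/
noncomputable def Moduli.τ : (M.P₁ W).toScheme ⟶ M.T :=
  pullback.lift (M.κ W ∣_ M.F) ((M.P₁ W).ι ≫ rt G (M.φ W) ≫ W.ι) (by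
    simp only [Moduli.γ, Category.assoc, morphismRestrict_ι_assoc]
    rw [show M.κ W ≫ pullback.fst G.s M.b ≫ G.t = rr G (M.φ W) ≫ G.t by
      rw [Moduli.κ, pullback.lift_fst_assoc], rr_t]
    rfl)

variable [Flat G.s] [LocallyOfFinitePresentation G.s]

/-- the subgroupoid -/
noncomputable def Moduli.P : (RR G (M.φ W)).Opens :=
  (M.P₁ W).ι ''ᵁ ⟨M.τ W ⁻¹' M.A, M.isClopen_A.isOpen.preimage (M.τ W).continuous⟩

theorem Moduli.mem_P {K : Type u} [Field K] (r : Spec (CommRingCat.of K) ⟶ RR G (M.φ W))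
    (p : ↥(Spec (CommRingCat.of K))) :
    r p ∈ M.P W ↔ Mem M.F ((r ≫ rs G (M.φ W)) ≫ W.ι) (r ≫ rr G (M.φ W)) ∧
      Rel G M.F ((r ≫ rs G (M.φ W)) ≫ W.ι) (r ≫ rr G (M.φ W)) ((r ≫ rt G (M.φ W)) ≫ W.ι) := by
  have hκ1 : M.κ W ≫ pullback.fst G.s M.b = rr G (M.φ W) := pullback.lift_fst _ _ _
  have hκ2 : M.κ W ≫ pullback.snd G.s M.b = rs G (M.φ W) ≫ W.ι := pullback.lift_snd _ _ _
  have hlift : ∀ (r₁ : Spec (CommRingCat.of K) ⟶ (M.P₁ W).toScheme), r₁ ≫ (M.P₁ W).ι = r →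
      ((r₁ ≫ M.τ W) ≫ pullback.fst _ _) ≫ M.q = (r ≫ rs G (M.φ W)) ≫ W.ι ∧
      ((r₁ ≫ M.τ W) ≫ pullback.fst _ _) ≫ M.γ = r ≫ rr G (M.φ W) ∧
      (r₁ ≫ M.τ W) ≫ pullback.snd _ _ = (r ≫ rt G (M.φ W)) ≫ W.ι := by
    rintro r₁ rfl
    have : ((r₁ ≫ M.τ W) ≫ pullback.fst _ _) ≫ M.F.ι = (r₁ ≫ (M.P₁ W).ι) ≫ M.κ W := by
      simp only [Moduli.τ, Category.assoc, pullback.lift_fst_assoc, morphismRestrict_ι]
      rfl
    refine ⟨?_, ?_, ?_⟩
    · rw [Moduli.q, ← Category.assoc, this, Category.assoc, hκ2]; simp only [Category.assoc]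
    · show ((r₁ ≫ M.τ W) ≫ pullback.fst _ _) ≫ M.F.ι ≫ pullback.fst G.s M.b = _
      rw [← Category.assoc, this, Category.assoc, hκ1]
    · simp only [Moduli.τ, Category.assoc, pullback.lift_snd]
  constructor
  · rintro ⟨w, hw, hwr⟩
    let r₁ := IsOpenImmersion.lift (M.P₁ W).ι r (by
      rintro _ ⟨q, rfl⟩
      rw [Subsingleton.elim q p, ← hwr]
      exact ⟨w, rfl⟩)
    have hr₁ : r₁ ≫ (M.P₁ W).ι = r := IsOpenImmersion.lift_fac _ _ _
    obtain ⟨e1, e2, e3⟩ := hlift r₁ hr₁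
    have hwp : r₁ p = w := (M.P₁ W).ι.isOpenEmbedding.injective (by
      exact (congr($hr₁ p)).trans hwr.symm)
    refine ⟨?_, ?_⟩
    · rw [← e1, ← e2]; exact M.mem_of_pt _
    · rw [← e1, ← e2, ← e3, ← M.mem_A _ p, Scheme.Hom.comp_apply, hwp]
      exact hw
  · rintro ⟨⟨h, hp⟩, hrel⟩
    have hκ : pullback.lift (r ≫ rr G (M.φ W)) ((r ≫ rs G (M.φ W)) ≫ W.ι) h = r ≫ M.κ W := by
      apply pullback.hom_ext
      · simp [hκ1]
      · simp [hκ2]
    let r₁ := IsOpenImmersion.lift (M.P₁ W).ι r (by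
      rintro _ ⟨q, rfl⟩
      rw [Scheme.Opens.range_ι]
      show M.κ W (r q) ∈ M.F
      rw [← Scheme.Hom.comp_apply, ← hκ]
      exact hp q)
    have hr₁ : r₁ ≫ (M.P₁ W).ι = r := IsOpenImmersion.lift_fac _ _ _
    obtain ⟨e1, e2, e3⟩ := hlift r₁ hr₁
    refine ⟨r₁ p, ?_, congr($hr₁ p)⟩
    show M.τ W (r₁ p) ∈ M.A
    rw [← Scheme.Hom.comp_apply, M.mem_A, e1, e2, e3]
    exact hrel

theorem Moduli.mem_P_rmk {K : Type u} [Field K] (g : Spec (CommRingCat.of K) ⟶ G.R)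
    (y x : Spec (CommRingCat.of K) ⟶ W.toScheme) (ha : g ≫ G.t = y ≫ M.φ W) (hb : g ≫ G.s = x ≫ M.φ W)
    (hm : Mem M.F (x ≫ W.ι) g) (hr : Rel G M.F (x ≫ W.ι) g (y ≫ W.ι)) (p : ↥(Spec (CommRingCat.of K))) :
    rmk G (M.φ W) g y x ha hb p ∈ M.P W := by
  refine (M.mem_P W _ p).2 ?_
  rw [rmk_rs, rmk_rr, rmk_rt]
  exact ⟨hm, hr⟩

theorem Moduli.isSubgrp : IsSubgrp (rgrp G (M.φ W)) (M.P W) where
  e_mem := fun w => by
    let x := W.toScheme.fromSpecResidueField w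
    let p := IsLocalRing.closedPoint (W.toScheme.residueField w)
    have e : x ≫ (rgrp G (M.φ W)).e =
        rmk G (M.φ W) ((x ≫ M.φ W) ≫ G.e) x x (by simp [G.e_t]) (by simp [G.e_s]) := by
      apply rext G (M.φ W) <;> simp [rgrp]
    have hxp : x p = w := W.toScheme.fromSpecResidueField_apply w p
    have hmem := M.mem_P_rmk W ((x ≫ M.φ W) ≫ G.e) x x (by simp [G.e_t]) (by simp [G.e_s])
      (by simpa only [Moduli.φ, Category.assoc] using M.e_mem _ (x ≫ W.ι))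
      (by simpa only [Moduli.φ, Category.assoc] using rel_refl G (W := M.F) (x := x ≫ W.ι)) p
    rw [← e] at hmem
    exact ((congrArg (fun v => (rgrp G (M.φ W)).e v) hxp) ▸ hmem : _)
  i_mem := fun z hz => by
    let r := (RR G (M.φ W)).fromSpecResidueField z
    let p := IsLocalRing.closedPoint ((RR G (M.φ W)).residueField z)
    have hrz : r p = z := (RR G (M.φ W)).fromSpecResidueField_apply z p
    obtain ⟨hm, hr⟩ := (M.mem_P W r p).1 ((congrArg (· ∈ M.P W) hrz).mpr hz)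
    have hc : ((r ≫ rr G (M.φ W)) ≫ G.i) ≫ G.s = (r ≫ rr G (M.φ W)) ≫ G.t := by
      rw [Category.assoc, G.i_s]
    have hm' : Mem M.F ((r ≫ rt G (M.φ W)) ≫ W.ι) ((r ≫ rr G (M.φ W)) ≫ G.i) := by
      have := (hr _ (𝟙 _) ((r ≫ rr G (M.φ W)) ≫ G.i)).2 ⟨by rw [Category.id_comp]; exact hc, by
        rw [Category.id_comp, gmul_congr G rfl (Category.id_comp _), i_gmul, ← Category.assoc, hm.1]
        exact M.e_mem _ _⟩
      rwa [Category.id_comp] at this
    have ha : ((r ≫ rr G (M.φ W)) ≫ G.i) ≫ G.t = (r ≫ rs G (M.φ W)) ≫ M.φ W := by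
      simp only [Category.assoc, G.i_t, rr_s]
    have hb : ((r ≫ rr G (M.φ W)) ≫ G.i) ≫ G.s = (r ≫ rt G (M.φ W)) ≫ M.φ W := by
      simp only [Category.assoc, G.i_s, rr_t]
    have e : r ≫ (rgrp G (M.φ W)).i = rmk G (M.φ W) _ _ _ ha hb := by
      apply rext G (M.φ W) <;> simp [rgrp]
    have hmem := M.mem_P_rmk W _ _ _ ha hb hm' (hr.symm G hm.1) p
    rw [← e] at hmem
    exact ((congrArg (fun v => (rgrp G (M.φ W)).i v) hrz) ▸ hmem : _)
  c_mem := fun z h₁ h₂ => by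
    let l := (pullback (rs G (M.φ W)) (rt G (M.φ W))).fromSpecResidueField z
    let p := IsLocalRing.closedPoint ((pullback (rs G (M.φ W)) (rt G (M.φ W))).residueField z)
    have hlz : l p = z := (pullback (rs G (M.φ W)) (rt G (M.φ W))).fromSpecResidueField_apply z p
    let α := l ≫ pullback.fst (rs G (M.φ W)) (rt G (M.φ W))
    let β := l ≫ pullback.snd (rs G (M.φ W)) (rt G (M.φ W))
    obtain ⟨hm₁, hr₁⟩ := (M.mem_P W α p).1
      ((congrArg (fun v => pullback.fst (rs G (M.φ W)) (rt G (M.φ W)) v ∈ M.P W) hlz).mpr h₁)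
    obtain ⟨hm₂, hr₂⟩ := (M.mem_P W β p).1
      ((congrArg (fun v => pullback.snd (rs G (M.φ W)) (rt G (M.φ W)) v ∈ M.P W) hlz).mpr h₂)
    have hαβ : α ≫ rs G (M.φ W) = β ≫ rt G (M.φ W) := by
      simp only [α, β, Category.assoc]
      exact congrArg (l ≫ ·) pullback.condition
    have hcond : (α ≫ rr G (M.φ W)) ≫ G.s = (β ≫ rr G (M.φ W)) ≫ G.t := by
      simp only [Category.assoc, rr_s, rr_t, reassoc_of% hαβ]
    have ha : gmul G (α ≫ rr G (M.φ W)) (β ≫ rr G (M.φ W)) hcond ≫ G.t =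
        (α ≫ rt G (M.φ W)) ≫ M.φ W := by rw [gmul_t]; simp only [Category.assoc, rr_t]
    have hb : gmul G (α ≫ rr G (M.φ W)) (β ≫ rr G (M.φ W)) hcond ≫ G.s =
        (β ≫ rs G (M.φ W)) ≫ M.φ W := by rw [gmul_s]; simp only [Category.assoc, rr_s]
    have e : l ≫ (rgrp G (M.φ W)).c = rmk G (M.φ W) _ _ _ ha hb := by
      apply rext G (M.φ W) <;> simp [rgrp, α, β, comp_gmul]
    rw [hαβ] at hm₁ hr₁
    have hm : Mem M.F ((β ≫ rs G (M.φ W)) ≫ W.ι) (gmul G (α ≫ rr G (M.φ W)) (β ≫ rr G (M.φ W)) hcond) := by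
      obtain ⟨hh, hm⟩ := (hr₂ _ (𝟙 _) (α ≫ rr G (M.φ W))).1 (by rw [Category.id_comp]; exact hm₁)
      rwa [Category.id_comp, gmul_congr G rfl (Category.id_comp _)] at hm
    have hmem := M.mem_P_rmk W _ _ _ ha hb hm (hr₂.trans G hr₁ hcond) p
    rw [← e] at hmem
    exact ((congrArg (fun v => (rgrp G (M.φ W)).c v) hlz) ▸ hmem : _)

end sub

end Groth.Agent.GrpdSplit
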