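import Groth.Agent.GrpdSplit.Translate
import Groth.Agent.TwConst.EtaleNbhd
import Groth.Agent.LimDesc.DescendQF
import Groth.Agent.Grpd.InvAffine
import Mathlib.AlgebraicGeometry.Morphisms.QuasiFinite

/-!
# Finite parts of a groupoid scheme over an étale neighbourhood of the base
-/

universe u

open CategoryTheory CategoryTheory.Limits AlgebraicGeometry

set_option backward.isDefEq.respectTransparency false

namespace Groth.Agent.GrpdSplit

open Groth.Agent.GrpdLib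

theorem exists_piece {X Y : Scheme.{u}} (f : X ⟶ Y) [LocallyOfFiniteType f] [IsSeparated f] (y : Y)
    (Z : Set X) (hZ : Z.Finite) (hs : ∀ z ∈ Z, f z = y) (hqf : ∀ z ∈ Z, f.QuasiFiniteAt z) :
    ∃ (Y' : Scheme.{u}) (g : Y' ⟶ Y) (y' : Y'), Etale g ∧ g y' = y ∧ IsIso (g.residueFieldMap y') ∧
      ∃ W : (pullback f g).Opens, IsPiece f W ∧
        ∀ z : ↥(pullback f g), pullback.snd f g z = y' → (z ∈ W ↔ pullback.fst f g z ∈ Z) := by
  classical
  obtain ⟨n, xs, hxs⟩ : ∃ (n : ℕ) (xs : Fin n → X), Set.range xs = Z := by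
    haveI := hZ.to_subtype
    obtain ⟨n, ⟨eq⟩⟩ := Finite.exists_equiv_fin Z
    exact ⟨n, fun i => (eq.symm i : X), by rw [← Function.comp_def, eq.symm.surjective.range_comp]; simp⟩
  have hmem : ∀ i, xs i ∈ Z := fun i => hxs ▸ Set.mem_range_self i
  obtain ⟨U₀, g, u₀, hg, hgu, hgk, V, v, hv⟩ := TwConst.exists_nbhd_points f y xs
    (fun i => hs _ (hmem i)) (fun i => hqf _ (hmem i))
  obtain ⟨W₀, hW₀f, hW₀⟩ : ∃ W₀ : (pullback f g).Opens, IsFinite (W₀.ι ≫ pullback.snd f g) ∧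
      (W₀ : Set ↥(pullback f g)) = ⋃ i, (V i : Set ↥(pullback f g)) := by
    suffices H : ∀ t : Finset (Fin n), ∃ W₀ : (pullback f g).Opens, IsFinite (W₀.ι ≫ pullback.snd f g) ∧
        (W₀ : Set ↥(pullback f g)) = ⋃ i ∈ t, (V i : Set ↥(pullback f g)) by
      obtain ⟨W₀, h₁, h₂⟩ := H Finset.univ
      exact ⟨W₀, h₁, h₂.trans (by simp)⟩
    intro t
    induction t using Finset.induction with
    | empty =>
      haveI : IsEmpty (⊥ : (pullback f g).Opens).toScheme := ⟨fun x => x.2⟩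
      exact ⟨⊥, inferInstance, by simp⟩
    | insert i t _ ih =>
      obtain ⟨W₀, h₁, h₂⟩ := ih
      haveI := h₁
      haveI := (hv i).2.1
      exact ⟨V i ⊔ W₀, TwConst.isFinite_sup _ _ _, by simp [h₂]⟩
  haveI := hW₀f
  haveI := hgk
  refine ⟨U₀, g, u₀, hg, hgu, hgk, W₀, ⟨?_, hW₀f⟩, fun z hz => ?_⟩
  · haveI : IsFinite W₀.ι := IsFinite.of_comp W₀.ι (pullback.snd f g)
    have := W₀.ι.isClosedMap.isClosed_range
    rwa [Scheme.Opens.range_ι] at this
  · rw [← SetLike.mem_coe, hW₀, Set.mem_iUnion]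
    constructor
    · rintro ⟨i, hi⟩
      rw [(hv i).2.2.2.1 z hi hz, (hv i).2.2.2.2]
      exact hmem i
    · intro hzZ
      rw [← hxs] at hzZ
      obtain ⟨i, hi⟩ := hzZ
      refine ⟨i, ?_⟩
      rw [TwConst.eq_of_fst_eq f g u₀ hz (hv i).2.2.1 (by rw [(hv i).2.2.2.2, hi])]
      exact (hv i).1

theorem quasiFiniteAt_of_finite_open {X Y : Scheme.{u}} (f : X ⟶ Y) [LocallyOfFiniteType f] (y : Y)
    (N : X.Opens) (hfin : ((N : Set X) ∩ f ⁻¹' {y}).Finite) {z : X} (hzN : z ∈ N) (hz : f z = y) :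
    f.QuasiFiniteAt z := by
  obtain ⟨w, rfl⟩ : z ∈ Set.range (f.fiberι y) := by rw [Scheme.Hom.range_fiberι]; exact hz
  rw [LimDesc.quasiFiniteAt_fiberι_iff]
  let O : (f.fiber y).Opens := f.fiberι y ⁻¹ᵁ N
  haveI : Finite O.toScheme := by
    haveI := hfin.to_subtype
    refine Finite.of_injective (fun o : O.toScheme => (⟨f.fiberι y o.1, o.2, ?_⟩ : ↥((N : Set X) ∩ f ⁻¹' {y}))) ?_
    · have : f.fiberι y o.1 ∈ Set.range (f.fiberι y) := Set.mem_range_self _
      rw [Scheme.Hom.range_fiberι] at this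
      exact this
    · intro a b h
      exact Subtype.ext ((f.fiberι y).isEmbedding.injective (Subtype.ext_iff.1 h))
  haveI : LocallyOfFiniteType (f.fiberToSpecResidueField y) :=
    MorphismProperty.pullback_snd (P := @LocallyOfFiniteType) _ _ inferInstance
  haveI : JacobsonSpace O.toScheme := LocallyOfFiniteType.jacobsonSpace (O.ι ≫ f.fiberToSpecResidueField y)
  haveI : DiscreteTopology ↥O.toScheme := inferInstance
  have h := O.ι.isOpenEmbedding.isOpenMap _ (@isOpen_discrete ↥O.toScheme _ _ {⟨w, hzN⟩})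
  rwa [Set.image_singleton] at h

theorem finite_baseChange_field {X Y : Scheme.{u}} (f : X ⟶ Y) [LocallyOfFiniteType f] {K : Type u} [Field K]
    (x : Spec (CommRingCat.of K) ⟶ Y) (hfin : (f ⁻¹' {x (IsLocalRing.closedPoint K)}).Finite) :
    Finite ↥(pullback f x) := by
  haveI : QuasiCompact x := ⟨fun U _ _ => (Set.toFinite _).isCompact⟩
  have hrange : ∀ w, pullback.fst f x w ∈ f ⁻¹' {x (IsLocalRing.closedPoint K)} := by
    intro w
    show f (pullback.fst f x w) = _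
    rw [← Scheme.Hom.comp_apply, pullback.condition, Scheme.Hom.comp_apply,
      Subsingleton.elim (pullback.snd f x w) (IsLocalRing.closedPoint K)]
  haveI : LocallyQuasiFinite (pullback.snd f x) :=
    LimDesc.locallyQuasiFinite_of_forall_quasiFiniteAt _ fun w =>
      LimDesc.quasiFiniteAt_of_isPullback (IsPullback.of_hasPullback f x)
        (quasiFiniteAt_of_finite_open f _ ⊤ (hfin.subset Set.inter_subset_right) trivial (hrange w))
  haveI : CompactSpace ↥(pullback f x) := by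
    choose O hO hmem _ using fun z : X => exists_isAffineOpen_mem_and_subset (X := X) (x := z) (U := ⊤) trivial
    have hcpt : IsCompact (⋃ z ∈ f ⁻¹' {x (IsLocalRing.closedPoint K)}, (O z : Set X)) :=
      hfin.isCompact_biUnion fun z _ => (hO z).isCompact
    have h := QuasiCompact.isCompact_preimage (f := pullback.fst f x) _ (isOpen_biUnion fun z _ => (O z).2) hcpt
    refine ⟨?_⟩
    convert h
    exact (Set.eq_univ_of_forall fun w => show pullback.fst f x w ∈ ⋃ z ∈ _, (O z : Set X) from Set.mem_biUnion (hrange w) (hmem _)).symm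
  haveI : QuasiCompact (pullback.snd f x) := (quasiCompact_iff_compactSpace (pullback.snd f x)).2 inferInstance
  rw [← Set.finite_univ_iff]
  exact ((pullback.snd f x).finite_preimage_singleton (IsLocalRing.closedPoint K)).subset
    fun w _ => Subsingleton.elim (α := ↥(Spec (CommRingCat.of K))) _ _

variable {S : Scheme.{u}} (G : Grpd.GroupoidScheme S)

theorem finite_preimage_target [LocallyOfFiniteType G.s] {u : G.U} (hfin : (⇑G.s ⁻¹' {u}).Finite)
    {r₀ : G.R} (hr₀ : G.s r₀ = u) : (⇑G.s ⁻¹' {G.t r₀}).Finite := by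
  let γ := G.R.fromSpecResidueField r₀
  have hγ : γ (IsLocalRing.closedPoint _) = r₀ := G.R.fromSpecResidueField_apply r₀ _
  haveI : Finite ↥(pullback G.s (𝟙 _ ≫ γ ≫ G.s)) := by
    refine finite_baseChange_field G.s _ ?_
    exact hfin.subset fun z hz => (Set.mem_singleton_iff.1 hz).trans ((congrArg G.s hγ).trans hr₀)
  let e := mulIso G (a := γ ≫ G.s) (𝟙 _) γ (by simp)
  haveI : Finite ↥(pullback G.s (γ ≫ G.t)) := Finite.of_injective e.hom e.hom.isOpenEmbedding.injective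
  refine (Set.finite_range (pullback.fst G.s (γ ≫ G.t))).subset fun r hr => ?_
  obtain ⟨z, hz, -⟩ := Scheme.Pullback.exists_preimage_pullback (f := G.s) (g := γ ≫ G.t) r
    (IsLocalRing.closedPoint _) (by rw [Scheme.Hom.comp_apply, hγ]; exact hr)
  exact ⟨z, hz⟩

/-- base change of the source -/
noncomputable abbrev sBC {S' : Scheme.{u}} (g : S' ⟶ S) : pullback G.pR g ⟶ pullback G.pU g :=
  pullback.map G.pR g G.pU g G.s (𝟙 S') (𝟙 S) ((Category.comp_id _).trans G.s_over.symm)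
    ((Category.comp_id _).trans (Category.id_comp _).symm)

/-- base change of the target -/
noncomputable abbrev tBC {S' : Scheme.{u}} (g : S' ⟶ S) : pullback G.pR g ⟶ pullback G.pU g :=
  pullback.map G.pR g G.pU g G.t (𝟙 S') (𝟙 S) ((Category.comp_id _).trans G.t_over.symm)
    ((Category.comp_id _).trans (Category.id_comp _).symm)

/-- the orbit of `u` -/
def orbSet (u : G.U) : Set G.U := ⇑G.t '' (⇑G.s ⁻¹' {u})

/-- arrows out of the orbit -/
def arrSet (u : G.U) : Set G.R := ⇑G.s ⁻¹' orbSet G u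

theorem mem_orbSet_of_arr {u : G.U} {r : G.R} (hr : r ∈ arrSet G u) : G.t r ∈ orbSet G u := by
  obtain ⟨r₀, hr₀, e⟩ := hr
  obtain ⟨r'', h₁, h₂⟩ := exists_comp G (r₁ := r) (r₂ := r₀) e.symm
  exact ⟨r'', h₂.trans hr₀, h₁⟩

theorem exists_core (p : S) (u : G.U) (hu : G.pU u = p) [LocallyOfFiniteType G.pU] [IsSeparated G.pU]
    [IsSeparated G.pR] [Flat G.s] [LocallyOfFinitePresentation G.s] [Flat G.t] [LocallyOfFinitePresentation G.t]
    (hqf : ∃ V : G.U.Opens, u ∈ V ∧ ∀ x ∈ V, G.pU x = p → x = u) (hfin : (⇑G.s ⁻¹' {u}).Finite) :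
    ∃ (S' : Scheme.{u}) (g : S' ⟶ S) (p' : S') (U' : (pullback G.pU g).Opens) (R' : (pullback G.pR g).Opens),
      Etale g ∧ g p' = p ∧ IsIso (g.residueFieldMap p') ∧ IsPiece G.pU U' ∧ IsPiece G.pR R' ∧
      (∀ z, pullback.snd G.pU g z = p' → (z ∈ U' ↔ pullback.fst G.pU g z ∈ orbSet G u)) ∧
      (∀ z, pullback.snd G.pR g z = p' → (z ∈ R' ↔ pullback.fst G.pR g z ∈ arrSet G u)) := by
  haveI : LocallyOfFiniteType G.pR := by rw [← G.s_over]; infer_instance
  have hZfin : (orbSet G u).Finite := hfin.image _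
  have hZp : ∀ z ∈ orbSet G u, G.pU z = p := by
    rintro _ ⟨r, hr, rfl⟩
    rw [← Scheme.Hom.comp_apply, G.t_over, ← G.s_over, Scheme.Hom.comp_apply, Set.mem_singleton_iff.1 hr, hu]
  obtain ⟨V, huV, hV⟩ := hqf
  let N : G.U.Opens := ⟨⇑G.t '' (⇑G.s ⁻¹' (V : Set G.U)), G.t.isOpenMap _ (V.2.preimage G.s.continuous)⟩
  have hN : (N : Set G.U) ∩ ⇑G.pU ⁻¹' {p} = orbSet G u := by
    ext z
    constructor
    · rintro ⟨⟨r, hr, rfl⟩, hp⟩
      have hp' : G.pU (G.s r) = p := by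
        rw [← Scheme.Hom.comp_apply, G.s_over, ← G.t_over, Scheme.Hom.comp_apply]
        exact hp
      exact ⟨r, hV _ hr hp', rfl⟩
    · intro h
      refine ⟨?_, hZp z h⟩
      obtain ⟨r, hr, rfl⟩ := h
      exact ⟨r, by rw [Set.mem_preimage, Set.mem_singleton_iff.1 hr]; exact huV, rfl⟩
  have hqfU : ∀ z ∈ orbSet G u, G.pU.QuasiFiniteAt z := fun z hz =>
    quasiFiniteAt_of_finite_open G.pU p N (hN ▸ hZfin) (hN.ge hz).1 (hZp z hz)
  have hEfin : (arrSet G u).Finite := by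
    rw [arrSet, ← Set.biUnion_preimage_singleton]
    exact hZfin.biUnion fun z ⟨r₀, hr₀, e⟩ => e ▸ finite_preimage_target G hfin hr₀
  have hEp : ∀ r ∈ arrSet G u, G.pR r = p := fun r hr => by
    rw [← G.s_over, Scheme.Hom.comp_apply]; exact hZp _ hr
  have hNR : ((G.s ⁻¹ᵁ N : G.R.Opens) : Set G.R) ∩ ⇑G.pR ⁻¹' {p} = arrSet G u := by
    rw [arrSet, ← hN, ← G.s_over]
    rfl
  have hqfR : ∀ r ∈ arrSet G u, G.pR.QuasiFiniteAt r := fun r hr =>
    quasiFiniteAt_of_finite_open G.pR p (G.s ⁻¹ᵁ N) (hNR ▸ hEfin) (hNR.ge hr).1 (hEp r hr)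
  obtain ⟨S₁, g₁, p₁, hg₁, hgp₁, hgi₁, W₁, hW₁, hW₁'⟩ := exists_piece G.pU p _ hZfin hZp hqfU
  obtain ⟨S₂, g₂, p₂, hg₂, hgp₂, hgi₂, W₂, hW₂, hW₂'⟩ := exists_piece G.pR p _ hEfin hEp hqfR
  obtain ⟨S', g, p', hg, hgp, hgi, hπ⟩ := TwConst.exists_common_nbhd (ι := Bool) p
    (fun b => bif b then S₁ else S₂) (fun b => by cases b <;> assumption)
    (fun b => by cases b <;> assumption) (fun b => by cases b <;> assumption)
    (fun b => by cases b <;> assumption) (fun b => by cases b <;> assumption)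
  obtain ⟨π₁, hπ₁, hp₁⟩ : ∃ π : S' ⟶ S₁, π ≫ g₁ = g ∧ π p' = p₁ := hπ true
  obtain ⟨π₂, hπ₂, hp₂⟩ : ∃ π : S' ⟶ S₂, π ≫ g₂ = g ∧ π p' = p₂ := hπ false
  refine ⟨S', g, p', pb W₁ π₁ hπ₁, pb W₂ π₂ hπ₂, hg, hgp, hgi, isPiece_pb _ _ _ hW₁, isPiece_pb _ _ _ hW₂,
    fun z hz => ?_, fun z hz => ?_⟩
  · refine (hW₁' (pbMap (s := G.pU) π₁ hπ₁ z) ?_).trans ?_
    · rw [← Scheme.Hom.comp_apply, pbMap, pullback.lift_snd, Scheme.Hom.comp_apply, hz, hp₁]
    · rw [← Scheme.Hom.comp_apply, show pbMap (s := G.pU) π₁ hπ₁ ≫ pullback.fst G.pU g₁ = pullback.fst G.pU g from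
        pullback.lift_fst _ _ _]
  · refine (hW₂' (pbMap (s := G.pR) π₂ hπ₂ z) ?_).trans ?_
    · rw [← Scheme.Hom.comp_apply, pbMap, pullback.lift_snd, Scheme.Hom.comp_apply, hz, hp₂]
    · rw [← Scheme.Hom.comp_apply, show pbMap (s := G.pR) π₂ hπ₂ ≫ pullback.fst G.pR g₂ = pullback.fst G.pR g from
        pullback.lift_fst _ _ _]

/-- the conclusions common to both local finite-part statements -/
theorem finite_part {p : S} {u : G.U} (hu : G.pU u = p) {S' : Scheme.{u}} (g : S' ⟶ S) (p' : S') (hgp : g p' = p)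
    [IsIso (g.residueFieldMap p')] (U' : (pullback G.pU g).Opens) (R₀ : (pullback G.pR g).Opens)
    (hU' : IsPiece G.pU U') (hR₀ : IsPiece G.pR R₀)
    (hUf : ∀ z, pullback.snd G.pU g z = p' → (z ∈ U' ↔ pullback.fst G.pU g z ∈ orbSet G u))
    (hRf : ∀ z, pullback.snd G.pR g z = p' → (z ∈ R₀ ↔ pullback.fst G.pR g z ∈ arrSet G u)) :
    let R' : (pullback G.pR g).Opens := R₀ ⊓ (sBC G g ⁻¹ᵁ U') ⊓ (tBC G g ⁻¹ᵁ U')
    IsClosed (R' : Set ↥(pullback G.pR g)) ∧
    (∃ u' : ↥(pullback G.pU g), u' ∈ U' ∧ pullback.fst G.pU g u' = u ∧ pullback.snd G.pU g u' = p') ∧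
    (∀ u' : ↥(pullback G.pU g), u' ∈ U' → pullback.fst G.pU g u' = u → pullback.snd G.pU g u' = p' →
      {x : ↥(pullback G.pU g) | x ∈ U' ∧ pullback.snd G.pU g x = p'} = ⇑(tBC G g) '' (⇑(sBC G g) ⁻¹' {u'})) ∧
    {r : ↥(pullback G.pR g) | r ∈ R' ∧ pullback.snd G.pR g r = p'} =
      ⇑(sBC G g) ⁻¹' {x | x ∈ U' ∧ pullback.snd G.pU g x = p'} ∧
    IsFinite (R'.ι ≫ pullback.snd G.pR g) ∧
    ⇑(sBC G g) '' (R' : Set ↥(pullback G.pR g)) ⊆ U' ∧ ⇑(tBC G g) '' (R' : Set ↥(pullback G.pR g)) ⊆ U' := by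
  intro R'
  have es₁ : sBC G g ≫ pullback.fst G.pU g = pullback.fst G.pR g ≫ G.s := pullback.lift_fst _ _ _
  have es₂ : sBC G g ≫ pullback.snd G.pU g = pullback.snd G.pR g :=
    (pullback.lift_snd _ _ _).trans (Category.comp_id _)
  have et₁ : tBC G g ≫ pullback.fst G.pU g = pullback.fst G.pR g ≫ G.t := pullback.lift_fst _ _ _
  have et₂ : tBC G g ≫ pullback.snd G.pU g = pullback.snd G.pR g :=
    (pullback.lift_snd _ _ _).trans (Category.comp_id _)
  have hs₁ : ∀ r, pullback.fst G.pU g (sBC G g r) = G.s (pullback.fst G.pR g r) := fun r => congr($es₁ r)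
  have hs₂ : ∀ r, pullback.snd G.pU g (sBC G g r) = pullback.snd G.pR g r := fun r => congr($es₂ r)
  have ht₁ : ∀ r, pullback.fst G.pU g (tBC G g r) = G.t (pullback.fst G.pR g r) := fun r => congr($et₁ r)
  have ht₂ : ∀ r, pullback.snd G.pU g (tBC G g r) = pullback.snd G.pR g r := fun r => congr($et₂ r)
  have hclosed : IsClosed (R' : Set ↥(pullback G.pR g)) :=
    (hR₀.closed.inter (hU'.closed.preimage (sBC G g).continuous)).inter (hU'.closed.preimage (tBC G g).continuous)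
  have hR'mem : ∀ r, pullback.snd G.pR g r = p' → (r ∈ R' ↔ pullback.fst G.pR g r ∈ arrSet G u) := by
    intro r hr
    refine ⟨fun h => (hRf r hr).1 h.1.1, fun h => ⟨⟨(hRf r hr).2 h, ?_⟩, ?_⟩⟩
    · exact (hUf _ ((hs₂ r).trans hr)).2 (by rw [hs₁]; exact h)
    · exact (hUf _ ((ht₂ r).trans hr)).2 (by rw [ht₁]; exact mem_orbSet_of_arr G h)
  refine ⟨hclosed, ?_, ?_, ?_, ?_, ?_, ?_⟩
  · obtain ⟨u', h₁, h₂⟩ := Scheme.Pullback.exists_preimage_pullback (f := G.pU) (g := g) u p' (hu.trans hgp.symm)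
    refine ⟨u', (hUf u' h₂).2 ⟨G.e u, ?_, ?_⟩, h₁, h₂⟩
    · rw [Set.mem_preimage, ← Scheme.Hom.comp_apply, G.e_s]; rfl
    · rw [h₁, ← Scheme.Hom.comp_apply, G.e_t]; rfl
  · intro u' _ hu₁ hu₂
    ext x
    constructor
    · rintro ⟨hx, hxp⟩
      obtain ⟨r, hr, hrx⟩ := (hUf x hxp).1 hx
      have hrp : G.pR r = g p' := by
        rw [← G.s_over, Scheme.Hom.comp_apply, Set.mem_singleton_iff.1 hr, hu, hgp]
      obtain ⟨r', hr₁, hr₂⟩ := Scheme.Pullback.exists_preimage_pullback (f := G.pR) (g := g) r p' hrp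
      refine ⟨r', ?_, ?_⟩
      · exact TwConst.eq_of_fst_eq G.pU g p' ((hs₂ r').trans hr₂) hu₂
          (by rw [hs₁, hr₁, hu₁]; exact hr)
      · exact TwConst.eq_of_fst_eq G.pU g p' ((ht₂ r').trans hr₂) hxp (by rw [ht₁, hr₁, hrx])
    · rintro ⟨r', hr', rfl⟩
      have hp : pullback.snd G.pR g r' = p' := by rw [← hs₂, Set.mem_singleton_iff.1 hr', hu₂]
      refine ⟨(hUf _ ((ht₂ r').trans hp)).2 ?_, (ht₂ r').trans hp⟩
      rw [ht₁]
      exact ⟨_, by rw [Set.mem_preimage, ← hs₁, Set.mem_singleton_iff.1 hr']; exact hu₁, rfl⟩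
  · ext r
    constructor
    · rintro ⟨h, hp⟩
      exact ⟨h.1.2, (hs₂ r).trans hp⟩
    · rintro ⟨hx, hxp⟩
      have hp : pullback.snd G.pR g r = p' := (hs₂ r).symm.trans hxp
      refine ⟨(hR'mem r hp).2 ?_, hp⟩
      have := (hUf _ hxp).1 hx
      rw [hs₁] at this
      exact this
  · haveI := hR₀.finite
    let j : R'.toScheme ⟶ R₀.toScheme := (pullback G.pR g).homOfLE (inf_le_left.trans inf_le_left)
    have : IsClosedImmersion j := by
      refine IsClosedImmersion.of_isPreimmersion _ ?_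
      have : Set.range j = R₀.ι ⁻¹' (R' : Set ↥(pullback G.pR g)) := by
        ext x
        constructor
        · rintro ⟨y, rfl⟩
          show R₀.ι (j y) ∈ R'
          rw [← Scheme.Hom.comp_apply, Scheme.homOfLE_ι]
          exact y.2
        · intro hx
          refine ⟨⟨x.1, hx⟩, R₀.ι.isOpenEmbedding.injective ?_⟩
          rw [← Scheme.Hom.comp_apply, Scheme.homOfLE_ι]
          rfl
      rw [this]
      exact hclosed.preimage R₀.ι.continuous
    rw [← Scheme.homOfLE_ι _ (show R' ≤ R₀ from inf_le_left.trans inf_le_left), Category.assoc]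
    exact MorphismProperty.comp_mem @IsFinite _ _ (inferInstanceAs (IsFinite j)) inferInstance
  · rintro _ ⟨r, hr, rfl⟩; exact hr.1.2
  · rintro _ ⟨r, hr, rfl⟩; exact hr.2

end Groth.Agent.GrpdSplit
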