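import Groth.Agent.GrpdSplit.Pieces
import Groth.Agent.GrpdInv.Basic

/-!
# Translating pieces by arrows
-/

universe u

open CategoryTheory CategoryTheory.Limits AlgebraicGeometry

set_option backward.isDefEq.respectTransparency false

namespace Groth.Agent.GrpdSplit

open Groth.Agent.GrpdLib

variable {S : Scheme.{u}} (G : Grpd.GroupoidScheme S)

section

variable {T F : Scheme.{u}} {a : T ⟶ G.U} (q : F ⟶ T) (γ : F ⟶ G.R) (hγ : γ ≫ G.s = q ≫ a)

include hγ in
lemma gmul_cond {K : Scheme.{u}} (g : K ⟶ G.R) (x : K ⟶ F) (h : g ≫ G.s = x ≫ (γ ≫ G.t)) :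
    gmul G g (x ≫ γ) (by rw [h, Category.assoc]) ≫ G.s = x ≫ (q ≫ a) := by
  rw [gmul_s, Category.assoc, hγ]

/-- right multiplication by `γ` -/
noncomputable def mulIso : pullback G.s (γ ≫ G.t) ≅ pullback G.s (q ≫ a) where
  hom := pullback.lift (gmul G (pullback.fst _ _) (pullback.snd _ _ ≫ γ) (by
      rw [Category.assoc]; exact pullback.condition)) (pullback.snd _ _)
    (gmul_cond G q γ hγ _ _ pullback.condition)
  inv := pullback.lift (gmul G (pullback.fst _ _) ((pullback.snd _ _ ≫ γ) ≫ G.i) (by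
      rw [Category.assoc, G.i_t, Category.assoc, hγ]; exact pullback.condition)) (pullback.snd _ _)
    (by rw [gmul_s, Category.assoc, G.i_s, Category.assoc])
  hom_inv_id := by
    apply pullback.hom_ext
    · simp only [Category.assoc, pullback.lift_fst, comp_gmul, pullback.lift_snd_assoc, Category.id_comp]
      exact (gmul_congr G rfl (by simp [Category.assoc]) _).trans
        (gmul_gmul_inv G (pullback.fst _ _) (pullback.snd _ _ ≫ γ) (by rw [Category.assoc]; exact pullback.condition))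
    · simp
  inv_hom_id := by
    apply pullback.hom_ext
    · simp only [Category.assoc, pullback.lift_fst, comp_gmul, pullback.lift_snd_assoc, Category.id_comp]
      have hs : pullback.fst G.s (q ≫ a) ≫ G.s = (pullback.snd G.s (q ≫ a) ≫ γ) ≫ G.s := by
        rw [Category.assoc, hγ]; exact pullback.condition
      exact (gmul_congr G (gmul_congr G rfl (by simp [Category.assoc]) _) rfl _).trans
        (GrpdInv.div_mul G (pullback.fst _ _) (pullback.snd _ _ ≫ γ) hs)
    · simp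

variable (W : (pullback G.s a).Opens)

/-- the translated piece -/
noncomputable def trW : (pullback G.s (γ ≫ G.t)).Opens := (mulIso G q γ hγ).hom ⁻¹ᵁ pb W q rfl

theorem mem_trW {K : Type u} [Field K] (x : Spec (CommRingCat.of K) ⟶ F) (g : Spec (CommRingCat.of K) ⟶ G.R) :
    Mem (trW G q γ hγ W) x g ↔
      ∃ h : g ≫ G.s = (x ≫ γ) ≫ G.t, Mem W (x ≫ q) (gmul G g (x ≫ γ) h) := by
  have key : ∀ (h : g ≫ G.s = x ≫ (γ ≫ G.t)),
      pullback.lift g x h ≫ (mulIso G q γ hγ).hom =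
        pullback.lift (gmul G g (x ≫ γ) (by rw [h, Category.assoc])) x (gmul_cond G q γ hγ g x h) := fun h => by
    apply pullback.hom_ext
    · simp only [mulIso, Category.assoc, pullback.lift_fst, comp_gmul, pullback.lift_snd_assoc]
    · simp [mulIso]
  constructor
  · rintro ⟨h, hp⟩
    refine ⟨by rw [h, Category.assoc], (mem_pb W q rfl x _).1 ⟨gmul_cond G q γ hγ g x h, fun p => ?_⟩⟩
    rw [← key h, Scheme.Hom.comp_apply]
    exact hp p
  · rintro ⟨h, hm⟩
    obtain ⟨h', hp⟩ := (mem_pb W q rfl x _).2 hm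
    refine ⟨by rw [h, Category.assoc], fun p => ?_⟩
    show (mulIso G q γ hγ).hom (pullback.lift g x _ p) ∈ pb W q rfl
    rw [← Scheme.Hom.comp_apply, key]
    exact hp p

theorem isPiece_trW (hW : IsPiece G.s W) : IsPiece G.s (trW G q γ hγ W) where
  closed := (isPiece_pb W q rfl hW).closed.preimage (mulIso G q γ hγ).hom.continuous
  finite := by
    haveI := (isPiece_pb W q rfl hW).finite
    have e : (trW G q γ hγ W).ι ≫ pullback.snd G.s (γ ≫ G.t) =
        ((mulIso G q γ hγ).hom ∣_ pb W q rfl) ≫ (pb W q rfl).ι ≫ pullback.snd G.s (q ≫ a) := by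
      rw [morphismRestrict_ι_assoc]
      simp [mulIso, trW]
    rw [e]
    infer_instance

end

/-- the points over `y` are the translates by `g` of the points over `x` -/
def Rel {T : Scheme.{u}} {a : T ⟶ G.U} (W : (pullback G.s a).Opens) {K : Type u} [Field K]
    (x : Spec (CommRingCat.of K) ⟶ T) (g : Spec (CommRingCat.of K) ⟶ G.R)
    (y : Spec (CommRingCat.of K) ⟶ T) : Prop :=
  ∀ (L : Type u) [Field L] (ψ : Spec (CommRingCat.of L) ⟶ Spec (CommRingCat.of K))
    (k : Spec (CommRingCat.of L) ⟶ G.R),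
    Mem W (ψ ≫ y) k ↔ ∃ h : k ≫ G.s = (ψ ≫ g) ≫ G.t, Mem W (ψ ≫ x) (gmul G k (ψ ≫ g) h)

variable {T : Scheme.{u}} {a : T ⟶ G.U} {W : (pullback G.s a).Opens} {K : Type u} [Field K]
  {x y z : Spec (CommRingCat.of K) ⟶ T} {g h : Spec (CommRingCat.of K) ⟶ G.R}

theorem Rel.comp_field {L : Type u} [Field L] (hr : Rel G W x g y)
    (φ : Spec (CommRingCat.of L) ⟶ Spec (CommRingCat.of K)) : Rel G W (φ ≫ x) (φ ≫ g) (φ ≫ y) := by
  intro M _ ψ k
  simpa only [Category.assoc] using hr M (ψ ≫ φ) k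

theorem Mem.comp_field {L : Type u} [Field L] (hm : Mem W x g)
    (φ : Spec (CommRingCat.of L) ⟶ Spec (CommRingCat.of K)) : Mem W (φ ≫ x) (φ ≫ g) :=
  (mem_comp W φ x g).2 hm

theorem rel_refl : Rel G W x ((x ≫ a) ≫ G.e) x := by
  intro L _ ψ k
  have key : ∀ hk : k ≫ G.s = (ψ ≫ (x ≫ a) ≫ G.e) ≫ G.t, gmul G k (ψ ≫ (x ≫ a) ≫ G.e) hk = k := by
    intro hk
    have hk' : k ≫ G.s = ψ ≫ x ≫ a := by
      simpa only [Category.assoc, G.e_t, Category.comp_id] using hk
    rw [gmul_eq]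
    refine (comp_congr G rfl ?_ _ (by simp [G.e_t])).trans (G.comp_e k)
    simp only [Category.assoc, reassoc_of% hk']
  constructor
  · intro hm
    obtain ⟨hk, hp⟩ := hm
    have hk' : k ≫ G.s = (ψ ≫ (x ≫ a) ≫ G.e) ≫ G.t := by
      simp only [Category.assoc, G.e_t, Category.comp_id]; simpa [Category.assoc] using hk
    exact ⟨hk', by rw [key hk']; exact ⟨hk, hp⟩⟩
  · rintro ⟨hk, hm⟩
    rwa [key hk] at hm

theorem Rel.symm (hxy : Rel G W x g y) (hg : g ≫ G.s = x ≫ a) : Rel G W y (g ≫ G.i) x := by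
  intro L _ ψ k
  constructor
  · intro hm
    have hk : k ≫ G.s = (ψ ≫ g ≫ G.i) ≫ G.t := by
      obtain ⟨hk, -⟩ := hm
      rw [hk, Category.assoc, Category.assoc, Category.assoc, G.i_t, hg]
    refine ⟨hk, (hxy L ψ _).2 ⟨by rw [gmul_s, Category.assoc, Category.assoc, G.i_s, Category.assoc], ?_⟩⟩
    rw [gmul_congr G (gmul_congr G rfl (Category.assoc _ _ _).symm hk) rfl,
      GrpdInv.div_mul G k (ψ ≫ g) (by rw [hk]; simp [Category.assoc, G.i_t])]
    exact hm
  · rintro ⟨hk, hm⟩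
    obtain ⟨hk', hm'⟩ := (hxy L ψ _).1 hm
    rw [gmul_congr G (gmul_congr G rfl (Category.assoc _ _ _).symm hk) rfl,
      GrpdInv.div_mul G k (ψ ≫ g) (by rw [hk]; simp [Category.assoc, G.i_t])] at hm'
    exact hm'

theorem Rel.trans (hxy : Rel G W x g y) (hyz : Rel G W y h z) (hh : h ≫ G.s = g ≫ G.t) :
    Rel G W x (gmul G h g hh) z := by
  intro L _ ψ k
  have e : ψ ≫ gmul G h g hh = gmul G (ψ ≫ h) (ψ ≫ g) (by rw [Category.assoc, hh, Category.assoc]) :=
    comp_gmul G ψ h g hh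
  have hht : (ψ ≫ gmul G h g hh) ≫ G.t = (ψ ≫ h) ≫ G.t := by rw [e, gmul_t]
  constructor
  · intro hm
    obtain ⟨hk, hm⟩ := (hyz L ψ k).1 hm
    obtain ⟨hk', hm⟩ := (hxy L ψ _).1 hm
    refine ⟨hk.trans hht.symm, ?_⟩
    rwa [gmul_congr G rfl e, ← GrpdInv.gassoc G k (ψ ≫ h) (ψ ≫ g) hk (by rw [Category.assoc, hh, Category.assoc])]
  · rintro ⟨hk, hm⟩
    have hk1 : k ≫ G.s = (ψ ≫ h) ≫ G.t := hk.trans hht
    refine (hyz L ψ k).2 ⟨hk1, (hxy L ψ _).2 ⟨by rw [gmul_s, Category.assoc, hh, Category.assoc], ?_⟩⟩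
    rwa [gmul_congr G rfl e, ← GrpdInv.gassoc G k (ψ ≫ h) (ψ ≫ g) hk1 (by rw [Category.assoc, hh, Category.assoc])] at hm

theorem Rel.sameSet (hy : Rel G W x g y) (hz : Rel G W x g z) : SameSet W W y z :=
  fun L _ ψ k => (hy L ψ k).trans (hz L ψ k).symm

end Groth.Agent.GrpdSplit
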